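import Cfsg.Agent.Lib.Helper59.TP.Base

set_option autoImplicit false

namespace Cfsg.Agent.Lib.Helper59.TP

open Cfsg.Agent.Lib.Helper59.CY

variable {G : Type*} [Group G] [Finite G] {p a : ℕ}

omit [Finite G] in
theorem A0_mem_smul (q : ℕ) (g y : G) (Q : Sylow q G) :
    g * y * g⁻¹ ∈ ((g • Q : Sylow q G) : Subgroup G) ↔ y ∈ (Q : Subgroup G) := by
  rw [Sylow.coe_subgroup_smul, Subgroup.mem_pointwise_smul_iff_inv_smul_mem,
    MulAut.smul_def, ← map_inv, MulAut.conj_apply]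
  simp [mul_assoc]

omit [Finite G] in
theorem A0_PE_conj (g z : G) (hz : PE p z) : PE p (g * z * g⁻¹) := by
  obtain ⟨k, hk⟩ := hz
  refine ⟨k, ?_⟩
  rw [← hk, ← MulAut.conj_apply]
  exact MulEquiv.orderOf_eq _ _

omit [Finite G] in
theorem A0_orderOf_conj (g z : G) : orderOf (g * z * g⁻¹) = orderOf z := by
  rw [← MulAut.conj_apply]
  exact MulEquiv.orderOf_eq _ _

omit [Finite G] in
theorem A0_cz_conj (q : ℕ) (g z : G) (Q : Sylow q G) (hz : z ∈ Cz (Q : Subgroup G)) :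
    g * z * g⁻¹ ∈ Cz ((g • Q : Sylow q G) : Subgroup G) := by
  rw [Subgroup.mem_centralizer_iff]
  intro u hu
  have hu' : g⁻¹ * u * g ∈ (Q : Subgroup G) := by
    rw [← A0_mem_smul q g]
    have e : g * (g⁻¹ * u * g) * g⁻¹ = u := by group
    rw [e]
    exact hu
  have h1 := Subgroup.mem_centralizer_iff.mp hz _ hu'
  calc u * (g * z * g⁻¹) = g * ((g⁻¹ * u * g) * z) * g⁻¹ := by group
    _ = g * (z * (g⁻¹ * u * g)) * g⁻¹ := by rw [h1]
    _ = g * z * g⁻¹ * u := by group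

/-- A0 -/
theorem hz_all (h : GF p a G) (hz : ∃ Q : Sylow 2 G, ∃ z ∈ Cz (Q : Subgroup G), z ≠ 1 ∧ PE p z) :
    ∀ Q : Sylow 2 G, ∃ z ∈ Cz (Q : Subgroup G), z ≠ 1 ∧ PE p z := by
  haveI : Fact (Nat.Prime 2) := ⟨Nat.prime_two⟩
  obtain ⟨Q0, z, hz, hz1, hzp⟩ := hz
  intro Q
  obtain ⟨g, rfl⟩ := MulAction.exists_smul_eq G Q0 Q
  refine ⟨g * z * g⁻¹, A0_cz_conj 2 g z Q0 hz, ?_, A0_PE_conj g z hzp⟩
  intro h1
  apply hz1
  have : z = g⁻¹ * (g * z * g⁻¹) * g := by group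
  rw [this, h1]
  group

end Cfsg.Agent.Lib.Helper59.TP
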