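import Cfsg.Agent.Lib.Helper59.TP.A4
import Cfsg.Agent.Lib.Helper59.CY.G1

set_option autoImplicit false

namespace Cfsg.Agent.Lib.Helper59.TP

open Cfsg.Agent.Lib.Helper59.CY

variable {G : Type*} [Group G] [Finite G] {p a : ℕ}

omit [Finite G] in
/-- conjugation by an element of `N(Q)` preserves `C(Q)` -/
theorem A1_cz_conj (Q : Subgroup G) (g c : G) (hg : g ∈ Nz Q) (hc : c ∈ Cz Q) : g * c * g⁻¹ ∈ Cz Q := by
  rw [Subgroup.mem_centralizer_iff]
  intro u hu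
  have hu' : g⁻¹ * u * g ∈ Q := by
    have := (Subgroup.mem_normalizer_iff.mp (Subgroup.inv_mem _ hg) u).mp hu
    simpa using this
  have h1 := Subgroup.mem_centralizer_iff.mp hc _ hu'
  calc u * (g * c * g⁻¹) = g * ((g⁻¹ * u * g) * c) * g⁻¹ := by group
    _ = g * (c * (g⁻¹ * u * g)) * g⁻¹ := by rw [h1]
    _ = g * c * g⁻¹ * u := by group

/-- A1 -/
theorem same_syl (h : GF p a G) (Q : Sylow 2 G) (z g : G) (hz : z ∈ Cz (Q : Subgroup G)) (hzp : PE p z)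
    (hg : g ∈ Nz (Q : Subgroup G)) (hgp : PE p g) :
    ∃ P : Sylow p G, z ∈ (P : Subgroup G) ∧ g ∈ (P : Subgroup G) := by
  haveI : Fact p.Prime := ⟨h.sb.pp⟩
  obtain ⟨t, ht, ht1, ht2⟩ := A4_exists_inv h Q
  set P1 : Subgroup G := Yt p t ⊓ Cz (Q : Subgroup G) with hP1
  have hP1p : IsPGroup p P1 := (h.yp t ht2).to_le inf_le_left
  have hmem : ∀ c ∈ Cz (Q : Subgroup G), PE p c → c ∈ P1 := by
    intro c hc hcp
    refine Subgroup.mem_inf.mpr ⟨Subgroup.subset_closure ⟨?_, hcp⟩, hc⟩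
    exact (Subgroup.mem_centralizer_iff.mp hc t ht).symm
  have hconj : ∀ x ∈ Nz (Q : Subgroup G), ∀ c ∈ P1, x * c * x⁻¹ ∈ P1 := by
    intro x hx c hc
    apply hmem _ (A1_cz_conj _ x c hx (Subgroup.mem_inf.mp hc).2)
    exact A0_PE_conj x c (PE_of_mem_pgroup hP1p hc)
  have hgN : g ∈ Nz P1 := by
    rw [Subgroup.mem_normalizer_iff]
    intro c
    refine ⟨hconj g hg c, fun hc => ?_⟩
    have := hconj g⁻¹ (Subgroup.inv_mem _ hg) _ hc
    simpa [mul_assoc] using this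
  obtain ⟨k, hk⟩ := hgp
  have hzg : IsPGroup p (Subgroup.zpowers g) := by
    apply IsPGroup.of_card (n := k)
    rw [Nat.card_zpowers, hk]
  have hle : Subgroup.zpowers g ≤ Nz P1 := by
    rw [Subgroup.zpowers_le]
    exact hgN
  have hsup : IsPGroup p (P1 ⊔ Subgroup.zpowers g : Subgroup G) :=
    hP1p.to_sup_of_normal_left' hzg hle
  obtain ⟨P, hP⟩ := hsup.exists_le_sylow
  exact ⟨P, hP (Subgroup.mem_sup_left (hmem z hz hzp)),
    hP (Subgroup.mem_sup_right (Subgroup.mem_zpowers g))⟩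

end Cfsg.Agent.Lib.Helper59.TP
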