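import Cfsg.Agent.Lib.Helper59.TP.Base

set_option autoImplicit false

namespace Cfsg.Agent.Lib.Helper59.TP

open Cfsg.Agent.Lib.Helper59.CY

variable {G : Type*} [Group G] [Finite G] {p a : ℕ}

/-- T3 : a normal `2`-subgroup `U ≠ 1` of a subgroup `L` containing `Q` and the transitive element is `Q` -/
theorem u_eq_q (h : GF p a G) (Q : Sylow 2 G) (x : G)
    (htr : ∀ u ∈ (Q : Subgroup G), u ≠ 1 → ∀ v ∈ (Q : Subgroup G), v ≠ 1 → ∃ i : ℕ, x ^ i * u * (x ^ i)⁻¹ = v)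
    (L U : Subgroup G) (hQL : (Q : Subgroup G) ≤ L) (hxL : x ∈ L) (hU2 : IsPGroup 2 U) (hU : U ≠ ⊥)
    (hLU : L ≤ Nz U) : U = (Q : Subgroup G) := by
  have hsup : IsPGroup 2 ((Q : Subgroup G) ⊔ U : Subgroup G) :=
    IsPGroup.to_sup_of_normal_right' Q.2 hU2 (hQL.trans hLU)
  have heq : (Q : Subgroup G) ⊔ U = (Q : Subgroup G) := Q.3 hsup le_sup_left
  have hUQ : U ≤ (Q : Subgroup G) := by
    rw [← heq]
    exact le_sup_right
  apply le_antisymm hUQ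
  obtain ⟨u, hu, hu1⟩ : ∃ u ∈ U, u ≠ 1 := by
    by_contra hcon
    push Not at hcon
    exact hU ((Subgroup.eq_bot_iff_forall _).2 hcon)
  intro v hv
  by_cases hv1 : v = 1
  · rw [hv1]
    exact U.one_mem
  · obtain ⟨i, hi⟩ := htr u (hUQ hu) hu1 v hv hv1
    rw [← hi]
    exact (Subgroup.mem_normalizer_iff.1 (hLU (L.pow_mem hxL i)) u).1 hu

end Cfsg.Agent.Lib.Helper59.TP
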