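import Cfsg.Agent.Lib.Helper59.TP.Base

set_option autoImplicit false

namespace Cfsg.Agent.Lib.Helper59.TP

open Cfsg.Agent.Lib.Helper59.CY

variable {G : Type*} [Group G] [Finite G] {p a : ℕ}

theorem T4_p_ne_two (h : SB p a G) : p ≠ 2 := by
  intro h2
  have h1 := h.hpa
  have h3 := h.ha
  obtain ⟨k, rfl⟩ : ∃ k, a = k + 2 := ⟨a - 2, by omega⟩
  have : 2 ^ (k + 2) = 4 * 2 ^ k := by ring
  omega

theorem T4_disj (h : SB p a G) {P Q : Subgroup G} (hP : IsPGroup p P) (hQ : IsPGroup 2 Q) {x : G}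
    (hxP : x ∈ P) (hxQ : x ∈ Q) : x = 1 := by
  have : Fact p.Prime := ⟨h.pp⟩
  have : Fact (Nat.Prime 2) := ⟨Nat.prime_two⟩
  have hd := IsPGroup.disjoint_of_ne p 2 (T4_p_ne_two h) P Q hP hQ
  exact Subgroup.disjoint_def.1 hd hxP hxQ

/-- T4 : `Q` does not normalize a Sylow `p`-subgroup containing a `p`-element of `N(Q)` that moves `Q` -/
theorem not_norm (h : GF p a G) (Q : Sylow 2 G) (P : Sylow p G) (x : G) (hx : x ∈ Nz (Q : Subgroup G))
    (hxP : x ∈ (P : Subgroup G)) (hQP : (Q : Subgroup G) ≤ Nz (P : Subgroup G)) :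
    ∀ u ∈ (Q : Subgroup G), x * u = u * x := by
  intro u hu
  have h1 : u * x * u⁻¹ ∈ (P : Subgroup G) := (Subgroup.mem_normalizer_iff.1 (hQP hu) x).1 hxP
  have h2 : x * u⁻¹ * x⁻¹ ∈ (Q : Subgroup G) :=
    (Subgroup.mem_normalizer_iff.1 hx u⁻¹).1 ((Q : Subgroup G).inv_mem hu)
  have h3 : u * x * u⁻¹ * x⁻¹ ∈ (P : Subgroup G) :=
    (P : Subgroup G).mul_mem h1 ((P : Subgroup G).inv_mem hxP)
  have h4 : u * x * u⁻¹ * x⁻¹ ∈ (Q : Subgroup G) := by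
    have : u * x * u⁻¹ * x⁻¹ = u * (x * u⁻¹ * x⁻¹) := by group
    rw [this]
    exact (Q : Subgroup G).mul_mem hu h2
  have h5 := T4_disj h.sb P.2 Q.2 h3 h4
  have h6 : u * x = x * u := by
    have : u * x = (u * x * u⁻¹ * x⁻¹) * (x * u) := by group
    rw [this, h5, one_mul]
  exact h6.symm

end Cfsg.Agent.Lib.Helper59.TP
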