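import Cfsg.Agent.Lib.Helper59.TP.A1
import Cfsg.Agent.Lib.Helper59.TP.T3
import Cfsg.Agent.Lib.Helper59.TP.T4

set_option autoImplicit false

namespace Cfsg.Agent.Lib.Helper59.TP

open Cfsg.Agent.Lib.Helper59.CY

variable {G : Type*} [Group G] [Finite G] {p a : ℕ}

/-- A2 -/
theorem cz_le_nq (h : GF p a G) (Q : Sylow 2 G) (z : G) (hz : z ∈ Cz (Q : Subgroup G)) (hz1 : z ≠ 1)
    (hzp : PE p z) : Ce z ≤ Nz (Q : Subgroup G) := by
  obtain ⟨-, h4, -, -⟩ := A4_arith h.sb
  obtain ⟨x, hxN, hxp, htr⟩ := h.tr Q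
  obtain ⟨P, hzP, hxP⟩ := same_syl h Q z x hz hzp hxN hxp
  have hQL : (Q : Subgroup G) ≤ Ce z := by
    intro u hu
    rw [Subgroup.mem_centralizer_iff]
    intro y hy
    rw [Set.mem_singleton_iff] at hy
    subst hy
    exact (Subgroup.mem_centralizer_iff.mp hz u hu).symm
  have hPL : (P : Subgroup G) ≤ Ce z := by
    intro u hu
    rw [Subgroup.mem_centralizer_iff]
    intro y hy
    rw [Set.mem_singleton_iff] at hy
    subst hy
    exact h.sb.pab P y hzP u hu
  have h2 : 2 ∣ Nat.card (Ce z) := by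
    have h1 : Nat.card (Q : Subgroup G) ∣ Nat.card (Ce z) := Subgroup.card_dvd_of_le hQL
    rw [h.sb.card2 Q] at h1
    exact (dvd_pow_self 2 (by have := h.sb.ha; omega)).trans h1
  obtain ⟨U, hU2, hUL, hLU, hLPU⟩ := h.tool (Ce z) P (h.zc z hz1) h2 hPL
  by_cases hU : U = ⊥
  · exfalso
    rw [hU, sup_bot_eq] at hLPU
    have hcent := not_norm h Q P x hxN hxP (hQL.trans hLPU)
    -- two different nontrivial elements of `Q`
    obtain ⟨t, ht, ht1, -⟩ := A4_exists_inv h Q
    have hex : ∃ v ∈ (Q : Subgroup G), v ≠ 1 ∧ v ≠ t := by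
      by_contra hcon
      push Not at hcon
      have hsub : ((Q : Subgroup G) : Set G) ⊆ {1, t} := by
        intro v hv
        by_cases hv1 : v = 1
        · left; exact hv1
        · right; exact hcon v hv hv1
      have hcard : Nat.card (Q : Subgroup G) ≤ 2 := by
        have h1 : (((Q : Subgroup G) : Set G)).ncard ≤ ({1, t} : Set G).ncard :=
          Set.ncard_le_ncard hsub (Set.toFinite _)
        have h3 : ({1, t} : Set G).ncard ≤ 2 := Set.ncard_insert_le _ _ |>.trans (by simp)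
        have h5 : Nat.card (Q : Subgroup G) = (((Q : Subgroup G) : Set G)).ncard := rfl
        omega
      rw [h.sb.card2 Q] at hcard
      omega
    obtain ⟨v, hv, hv1, hvt⟩ := hex
    obtain ⟨i, hi⟩ := htr t ht ht1 v hv hv1
    apply hvt
    rw [← hi]
    have hc : ∀ n : ℕ, x ^ n * t = t * x ^ n := by
      intro n
      induction n with
      | zero => simp
      | succ n ih =>
        rw [pow_succ, mul_assoc, hcent t ht, ← mul_assoc, ih, mul_assoc]
    rw [hc i]
    group
  · have := u_eq_q h Q x htr (Ce z) U hQL (hPL hxP) hU2 hU hLU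
    rw [← this]
    exact hLU

end Cfsg.Agent.Lib.Helper59.TP
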