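import Cfsg.Agent.Lib.Helper59.TP.Base
import Cfsg.Agent.Lib.Helper59.TP.T4

set_option autoImplicit false

namespace Cfsg.Agent.Lib.Helper59.TP

open Cfsg.Agent.Lib.Helper59.CY

variable {G : Type*} [Group G] [Finite G] {p a : ℕ}

theorem T7_yt_le (t : G) : Yt p t ≤ Ce t := by
  unfold Yt
  rw [Subgroup.closure_le]
  rintro k ⟨hk1, -⟩
  exact Subgroup.mem_centralizer_singleton_iff.2 hk1

/-- T7 : `C(t) = Y_t Q` -/
theorem ct_fact (h : GF p a G) (Q : Sylow 2 G) (t : G) (ht : t ∈ (Q : Subgroup G)) (ht1 : t ≠ 1)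
    (g : G) (hg : g * t = t * g) : ∃ y ∈ Yt p t, ∃ u ∈ (Q : Subgroup G), g = y * u := by
  have htt : t * t = 1 := h.el Q t ht
  have ho : orderOf t = 2 := orderOf_eq_prime (by rw [pow_two]; exact htt) ht1
  have hQt : ∀ u ∈ (Q : Subgroup G), u * t = t * u := by
    intro u hu
    have h1 := h.el Q u hu
    have h2 := h.el Q (u * t) ((Q : Subgroup G).mul_mem hu ht)
    calc u * t = u * (u * t * (u * t)) * t := by rw [h2, mul_one]
      _ = (u * u) * t * u * (t * t) := by group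
      _ = t * u := by rw [h1, htt, one_mul, mul_one]
  let f : (Yt p t) × (Q : Subgroup G) → Ce t := fun z =>
    ⟨z.1.1 * z.2.1, (Ce t).mul_mem (T7_yt_le t z.1.2)
      (Subgroup.mem_centralizer_singleton_iff.2 (hQt z.2.1 z.2.2))⟩
  have hinj : Function.Injective f := by
    rintro ⟨y, u⟩ ⟨y', u'⟩ hf
    have h1 : y.1 * u.1 = y'.1 * u'.1 := congrArg Subtype.val hf
    have h2 : y'.1⁻¹ * y.1 = u'.1 * u.1⁻¹ := by
      calc y'.1⁻¹ * y.1 = y'.1⁻¹ * (y.1 * u.1) * u.1⁻¹ := by group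
        _ = u'.1 * u.1⁻¹ := by rw [h1]; group
    have h3 : y'.1⁻¹ * y.1 = 1 := by
      apply T4_disj h.sb (h.yp t ho) Q.2 ((Yt p t).mul_mem ((Yt p t).inv_mem y'.2) y.2)
      rw [h2]
      exact (Q : Subgroup G).mul_mem u'.2 ((Q : Subgroup G).inv_mem u.2)
    have h4 : y = y' := by
      apply Subtype.ext
      exact (inv_mul_eq_one.1 h3).symm
    have h5 : u = u' := by
      apply Subtype.ext
      rw [h3] at h2
      exact (mul_inv_eq_one.1 h2.symm).symm
    rw [h4, h5]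
  have hcard : Nat.card (Ce t) ≤ Nat.card ((Yt p t) × (Q : Subgroup G)) := by
    rw [Nat.card_prod, h.yc t ho, h.sb.card2 Q]
  have hbij := hinj.bijective_of_nat_card_le hcard
  obtain ⟨⟨y, u⟩, hyu⟩ := hbij.2 ⟨g, Subgroup.mem_centralizer_singleton_iff.2 hg⟩
  exact ⟨y.1, y.2, u.1, u.2, (congrArg Subtype.val hyu).symm⟩

end Cfsg.Agent.Lib.Helper59.TP
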