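import Cfsg.Agent.Lib.Helper59.TP.A4
import Cfsg.Agent.Lib.Helper59.TP.T7

set_option autoImplicit false

namespace Cfsg.Agent.Lib.Helper59.TP

open Cfsg.Agent.Lib.Helper59.CY

variable {G : Type*} [Group G] [Finite G] {p a : ℕ}

omit [Finite G] in
/-- a Sylow 2-subgroup is abelian (exponent 2) -/
theorem A3_comm (h : GF p a G) (Q : Sylow 2 G) : ∀ u ∈ (Q : Subgroup G), ∀ v ∈ (Q : Subgroup G),
    u * v = v * u := by
  intro u hu v hv
  have h1 := h.el Q u hu
  have h2 := h.el Q v hv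
  have h3 := h.el Q (u * v) (Subgroup.mul_mem _ hu hv)
  calc u * v = v * v * (u * v) * (u * u) := by rw [h1, h2]; group
    _ = v * (v * u * (v * u)) * u := by group
    _ = v * (u * u * (v * u * (v * u)) * (v * v)) * u := by rw [h1, h2]; group
    _ = v * (u * (u * v * (u * v)) * u * v * v) * u := by group
    _ = v * u := by rw [h3]; simp only [mul_one, mul_assoc, h1, h2]

omit [Finite G] in
theorem A3_yt_le (t : G) : Yt p t ≤ Ce t := by
  unfold Yt
  rw [Subgroup.closure_le]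
  intro g hg
  rw [SetLike.mem_coe, Subgroup.mem_centralizer_iff]
  intro y hy
  rw [Set.mem_singleton_iff] at hy
  subst hy
  exact hg.1.symm

/-- A3 -/
theorem ct_le_cq (h : GF p a G)
    (hA2 : ∀ Q : Sylow 2 G, ∀ z ∈ Cz (Q : Subgroup G), z ≠ 1 → PE p z → Ce z ≤ Nz (Q : Subgroup G))
    (Q : Sylow 2 G) (hz : ∃ z ∈ Cz (Q : Subgroup G), z ≠ 1 ∧ PE p z)
    (t : G) (ht : t ∈ (Q : Subgroup G)) (ht1 : t ≠ 1) : Ce t ≤ Cz (Q : Subgroup G) := by
  haveI : Fact p.Prime := ⟨h.sb.pp⟩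
  obtain ⟨z, hz, hz1, hzp⟩ := hz
  have ht2 : orderOf t = 2 := by
    apply orderOf_eq_prime _ ht1
    rw [pow_two]
    exact h.el Q t ht
  obtain ⟨P, hP⟩ := (h.yp t ht2).exists_le_sylow
  have hzY : z ∈ Yt p t :=
    Subgroup.subset_closure ⟨(Subgroup.mem_centralizer_iff.mp hz t ht).symm, hzp⟩
  intro g hg
  have hgt : g * t = t * g := (Subgroup.mem_centralizer_iff.mp hg t rfl).symm
  obtain ⟨y, hy, u, hu, rfl⟩ := ct_fact h Q t ht ht1 g hgt
  apply Subgroup.mul_mem
  · have hyz : y ∈ Ce z := by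
      rw [Subgroup.mem_centralizer_iff]
      intro w hw
      rw [Set.mem_singleton_iff] at hw
      subst hw
      exact h.sb.pab P w (hP hzY) y (hP hy)
    have hyN := hA2 Q z hz hz1 hzp hyz
    have hyt : y * t = t * y := (Subgroup.mem_centralizer_iff.mp (A3_yt_le t hy) t rfl).symm
    rw [Subgroup.mem_centralizer_iff]
    intro v hv
    exact (h.fix Q y hyN ⟨t, ht, ht1, hyt⟩ v hv).symm
  · rw [Subgroup.mem_centralizer_iff]
    intro v hv
    exact A3_comm h Q v hv u hu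

end Cfsg.Agent.Lib.Helper59.TP
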