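import Cfsg.Agent.Lib.Helper59.TP.A0

set_option autoImplicit false

namespace Cfsg.Agent.Lib.Helper59.TP

open Cfsg.Agent.Lib.Helper59.CY

variable {G : Type*} [Group G] [Finite G] {p a : ℕ}

omit [Finite G] in
/-- `p` is odd, at least 3 and `2 ^ a = p + 1 ≥ 4` -/
theorem A4_arith (h : SB p a G) : 2 ^ a = p + 1 ∧ 4 ≤ 2 ^ a ∧ p ≠ 2 ∧ 3 ≤ p := by
  have h4 : 4 ≤ 2 ^ a := by
    calc 4 = 2 ^ 2 := by norm_num
      _ ≤ 2 ^ a := Nat.pow_le_pow_right (by norm_num) h.ha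
  have h1 : 2 ^ a = p + 1 := by
    have := h.hpa
    omega
  refine ⟨h1, h4, ?_, by omega⟩
  intro h2
  omega

omit [Finite G] in
/-- a Sylow 2-subgroup has an element of order 2 -/
theorem A4_exists_inv (h : GF p a G) (Q : Sylow 2 G) :
    ∃ t ∈ (Q : Subgroup G), t ≠ 1 ∧ orderOf t = 2 := by
  have h4 := (A4_arith h.sb).2.1
  have hc := h.sb.card2 Q
  have hne : (Q : Subgroup G) ≠ ⊥ := by
    intro hb
    rw [hb, Subgroup.card_bot] at hc
    omega
  obtain ⟨⟨t, ht⟩, ht0⟩ := Subgroup.ne_bot_iff_exists_ne_one.mp hne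
  have ht1 : t ≠ 1 := fun e => ht0 (Subtype.ext e)
  refine ⟨t, ht, ht1, ?_⟩
  apply orderOf_eq_prime _ ht1
  rw [pow_two]
  exact h.el Q t ht

/-- A4 -/
theorem ex_inv_out (h : GF p a G) (Q : Sylow 2 G) : ∃ s : G, orderOf s = 2 ∧ s ∉ (Q : Subgroup G) := by
  by_contra hcon
  push Not at hcon
  obtain ⟨h1, h4, hp2, hp3⟩ := A4_arith h.sb
  have hn : (Q : Subgroup G).Normal := by
    constructor
    intro u hu g
    by_cases hu1 : u = 1
    · rw [hu1]; simp
    · apply hcon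
      rw [A0_orderOf_conj]
      apply orderOf_eq_prime _ hu1
      rw [pow_two]
      exact h.el Q u hu
  have hc := h.sb.card2 Q
  rcases h.sb.simp _ hn with hb | ht
  · rw [hb, Subgroup.card_bot] at hc
    omega
  · rw [ht, Subgroup.card_top] at hc
    have hd := h.sb.pdvd
    rw [hc] at hd
    exact hp2 ((Nat.prime_dvd_prime_iff_eq h.sb.pp Nat.prime_two).mp (h.sb.pp.dvd_of_dvd_pow hd))

end Cfsg.Agent.Lib.Helper59.TP
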