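import Cfsg.Agent.Lib.Helper59.TP.Base
import Cfsg.Agent.Lib.Helper59.CY.G1

set_option autoImplicit false

namespace Cfsg.Agent.Lib.Helper59.TP

open Cfsg.Agent.Lib.Helper59.CY

variable {G : Type*} [Group G] [Finite G] {p a : ℕ}

theorem A5_p_ne_two (h : SB p a G) : p ≠ 2 := by
  intro h2
  have h1 := h.hpa
  have h3 : 2 ^ 2 ≤ 2 ^ a := Nat.pow_le_pow_right (by norm_num) h.ha
  omega

theorem A5_mem_of_inv (Q : Sylow 2 G) {e : G} (he : orderOf e = 2) (hN : e ∈ Nz (Q : Subgroup G)) :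
    e ∈ (Q : Subgroup G) :=
  pin Q hN ⟨1, by rw [he, pow_one]⟩

theorem A5_cz_le_nz (H : Subgroup G) : Cz H ≤ Nz H := Subgroup.centralizer_le_normalizer _

theorem A5_order_two {t : G} (h1 : t * t = 1) (h2 : t ≠ 1) : orderOf t = 2 :=
  orderOf_eq_prime (by rw [pow_two]; exact h1) h2

/-- A5 -/
theorem w_props (h : GF p a G)
    (hA2 : ∀ Q : Sylow 2 G, ∀ z ∈ Cz (Q : Subgroup G), z ≠ 1 → PE p z → Ce z ≤ Nz (Q : Subgroup G))
    (hA3 : ∀ Q : Sylow 2 G, ∀ t ∈ (Q : Subgroup G), t ≠ 1 → Ce t ≤ Cz (Q : Subgroup G))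
    (Q : Sylow 2 G) (t s : G) (ht : t ∈ (Q : Subgroup G)) (ht1 : t ≠ 1) (hs : orderOf s = 2)
    (hsQ : s ∉ (Q : Subgroup G)) :
    PE p (t * s) ∧ t * s ≠ 1 ∧ ¬ 2 ∣ Nat.card (Ce (t * s)) := by
  have htt : t * t = 1 := h.el Q t ht
  have hto : orderOf t = 2 := A5_order_two htt ht1
  have hss : s * s = 1 := by
    have := pow_orderOf_eq_one s
    rwa [hs, pow_two] at this
  have hti : t⁻¹ = t := inv_eq_of_mul_eq_one_left htt
  have hsi : s⁻¹ = s := inv_eq_of_mul_eq_one_left hss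
  have hPE : PE p (t * s) := by
    rcases h.prod s t hs hto with h1 | ⟨e, he, het, hes⟩
    · exact h1
    · exfalso
      have he1 : e ≠ 1 := by
        rintro rfl
        simp at he
      have h1 : e ∈ Ce t := Subgroup.mem_centralizer_singleton_iff.2 het
      have h2 : e ∈ (Q : Subgroup G) := A5_mem_of_inv Q he (A5_cz_le_nz _ (hA3 Q t ht ht1 h1))
      have h3 : s ∈ Ce e := Subgroup.mem_centralizer_singleton_iff.2 hes.symm
      exact hsQ (A5_mem_of_inv Q hs (A5_cz_le_nz _ (hA3 Q e h2 he1 h3)))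
  have hw1 : t * s ≠ 1 := by
    intro h1
    apply hsQ
    have : s = t⁻¹ := (inv_eq_of_mul_eq_one_right h1).symm
    rw [this]
    exact (Q : Subgroup G).inv_mem ht
  refine ⟨hPE, hw1, ?_⟩
  intro h2
  obtain ⟨⟨e, heC⟩, he⟩ := exists_prime_orderOf_dvd_card' (G := ↥(Ce (t * s))) 2 h2
  have he2 : orderOf e = 2 := by
    rw [← he]
    exact (Subgroup.orderOf_mk e heC).symm
  have he1 : e ≠ 1 := by
    rintro rfl
    simp at he2
  have hz : IsPGroup 2 (Subgroup.zpowers e) := by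
    apply IsPGroup.of_card (n := 1)
    rw [Nat.card_zpowers, he2, pow_one]
  obtain ⟨Q', hQ'⟩ := hz.exists_le_sylow
  have heQ' : e ∈ (Q' : Subgroup G) := hQ' (Subgroup.mem_zpowers e)
  have hew : e * (t * s) = (t * s) * e := Subgroup.mem_centralizer_singleton_iff.1 heC
  have hwC : t * s ∈ Cz (Q' : Subgroup G) :=
    hA3 Q' e heQ' he1 (Subgroup.mem_centralizer_singleton_iff.2 hew.symm)
  have hle : Ce (t * s) ≤ Nz (Q' : Subgroup G) := hA2 Q' _ hwC hw1 hPE
  have hinv : t * (t * s) * t⁻¹ = (t * s)⁻¹ := by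
    rw [mul_inv_rev, hsi, hti, ← mul_assoc, htt, one_mul]
  have hconj : ∀ u ∈ (Q' : Subgroup G), t * u * t⁻¹ ∈ (Q' : Subgroup G) := by
    intro u hu
    have hu1 : u * (t * s) = (t * s) * u := (Subgroup.mem_centralizer_iff.1 hwC u hu)
    have hu2 : t * u * t⁻¹ ∈ Ce (t * s) := by
      rw [Subgroup.mem_centralizer_singleton_iff]
      have h5 : (t * u * t⁻¹) * (t * s)⁻¹ = (t * s)⁻¹ * (t * u * t⁻¹) := by
        rw [← hinv]
        calc t * u * t⁻¹ * (t * (t * s) * t⁻¹) = t * (u * (t * s)) * t⁻¹ := by group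
          _ = t * ((t * s) * u) * t⁻¹ := by rw [hu1]
          _ = _ := by group
      have h6 : Commute (t * u * t⁻¹) (t * s)⁻¹ := h5
      exact (Commute.inv_right_iff.1 h6)
    have hu3 : PE 2 (t * u * t⁻¹) := by
      have h7 : orderOf (t * u * t⁻¹) = orderOf u := by
        have := orderOf_injective (MulAut.conj t).toMonoidHom (MulAut.conj t).injective u
        simpa [MulAut.conj_apply] using this
      rw [PE, h7]
      exact PE_of_mem_pgroup Q'.2 hu
    exact pin Q' (hle hu2) hu3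
  have htN : t ∈ Nz (Q' : Subgroup G) := by
    rw [Subgroup.mem_normalizer_iff]
    intro u
    refine ⟨hconj u, fun hu => ?_⟩
    have := hconj _ hu
    have h8 : t * (t * u * t⁻¹) * t⁻¹ = u := by
      rw [hti]
      calc t * (t * u * t) * t = (t * t) * u * (t * t) := by group
        _ = u := by rw [htt]; simp
    rwa [h8] at this
  have htQ' : t ∈ (Q' : Subgroup G) := A5_mem_of_inv Q' hto htN
  have hcomm : t * (t * s) = (t * s) * t := Subgroup.mem_centralizer_iff.1 hwC t htQ'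
  have hsq : (t * s) ^ 2 = 1 := by
    have h9 : (t * s) = (t * s)⁻¹ := by
      rw [← hinv, hcomm]; group
    rw [pow_two]
    nth_rewrite 1 [h9]
    exact inv_mul_cancel _
  obtain ⟨k, hk⟩ := hPE
  have hd : p ^ k ∣ 2 := hk ▸ orderOf_dvd_of_pow_eq_one hsq
  have hk0 : k = 0 := by
    by_contra hk0
    have h10 : p ∣ 2 := (dvd_pow_self p hk0).trans hd
    exact A5_p_ne_two h.sb ((Nat.prime_dvd_prime_iff_eq h.sb.pp Nat.prime_two).1 h10)
  rw [hk0, pow_zero, orderOf_eq_one_iff] at hk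
  exact hw1 hk

end Cfsg.Agent.Lib.Helper59.TP
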