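import Cfsg.Agent.Lib.Helper59.TP.Base

set_option autoImplicit false

namespace Cfsg.Agent.Lib.Helper59.TP

open Cfsg.Agent.Lib.Helper59.CY

variable {G : Type*} [Group G] [Finite G] {p a : ℕ}

/-- T1 : an involution acting without fixed points on an abelian subgroup inverts it -/
theorem inv_of_fpf (A : Subgroup G) (hab : ∀ x ∈ A, ∀ y ∈ A, x * y = y * x) (t : G) (ht : t * t = 1)
    (htA : t ∈ Nz A) (hfpf : ∀ y ∈ A, t * y = y * t → y = 1) : ∀ y ∈ A, t * y * t⁻¹ = y⁻¹ := by
  intro y hy
  have hty : t * y * t⁻¹ ∈ A := (Subgroup.mem_normalizer_iff.1 htA y).1 hy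
  have hti : t⁻¹ = t := inv_eq_of_mul_eq_one_left ht
  obtain ⟨c, hc⟩ : ∃ c, c = t * y * t⁻¹ := ⟨_, rfl⟩
  rw [← hc] at hty ⊢
  have hcy := hab y hy c hty
  have e1 : t * y = c * t := by rw [hc]; group
  have e2 : t * c = y * t := by
    rw [hc, hti]
    calc t * (t * y * t) = (t * t) * y * t := by group
      _ = y * t := by rw [ht, one_mul]
  have hz : y * c = 1 := by
    apply hfpf _ (A.mul_mem hy hty)
    calc t * (y * c) = (t * y) * c := by group
      _ = c * (t * c) := by rw [e1]; group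
      _ = (c * y) * t := by rw [e2]; group
      _ = (y * c) * t := by rw [hcy]
  exact eq_inv_of_mul_eq_one_right hz

end Cfsg.Agent.Lib.Helper59.TP
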