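import Cfsg.Agent.Lib.Helper59.TP.A4
import Cfsg.Agent.Lib.Helper59.TP.T1
import Cfsg.Agent.Lib.Helper59.CY.G1

set_option autoImplicit false

namespace Cfsg.Agent.Lib.Helper59.TP

open Cfsg.Agent.Lib.Helper59.CY

variable {G : Type*} [Group G] [Finite G] {p a : ℕ}

/-- A6 -/
theorem ex_inverted (h : GF p a G)
    (hA2 : ∀ Q : Sylow 2 G, ∀ z ∈ Cz (Q : Subgroup G), z ≠ 1 → PE p z → Ce z ≤ Nz (Q : Subgroup G))
    (hA3 : ∀ Q : Sylow 2 G, ∀ t ∈ (Q : Subgroup G), t ≠ 1 → Ce t ≤ Cz (Q : Subgroup G))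
    (Q : Sylow 2 G) (t s : G) (ht : t ∈ (Q : Subgroup G)) (ht1 : t ≠ 1) (hs : orderOf s = 2)
    (hsQ : s ∉ (Q : Subgroup G)) (P : Sylow p G) (hP : (P : Subgroup G) = Ce (t * s)) :
    ∀ y ∈ (P : Subgroup G), t * y * t⁻¹ = y⁻¹ := by
  haveI : Fact p.Prime := ⟨h.sb.pp⟩
  haveI : Fact (Nat.Prime 2) := ⟨Nat.prime_two⟩
  have htt : t * t = 1 := h.el Q t ht
  have hss : s * s = 1 := by
    have := pow_orderOf_eq_one s
    rwa [hs, pow_two] at this
  have htinv : t⁻¹ = t := inv_eq_of_mul_eq_one_left htt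
  have hsinv : s⁻¹ = s := inv_eq_of_mul_eq_one_left hss
  set w := t * s with hw
  have hwinv : t * w * t⁻¹ = w⁻¹ := by
    rw [hw, mul_inv_rev, htinv, hsinv]
    calc t * (t * s) * t = (t * t) * s * t := by group
      _ = s * t := by rw [htt, one_mul]
  -- `t` normalises `C(w)`
  have hconj : ∀ c ∈ Ce w, t * c * t⁻¹ ∈ Ce w := by
    intro c hc
    have hcw : w * c = c * w := Subgroup.mem_centralizer_iff.mp hc w rfl
    rw [Subgroup.mem_centralizer_iff]
    intro y hy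
    rw [Set.mem_singleton_iff] at hy
    subst hy
    have h2 : (t * c * t⁻¹) * w⁻¹ = w⁻¹ * (t * c * t⁻¹) := by
      rw [← hwinv]
      calc t * c * t⁻¹ * (t * w * t⁻¹) = t * (c * w) * t⁻¹ := by group
        _ = t * (w * c) * t⁻¹ := by rw [hcw]
        _ = t * w * t⁻¹ * (t * c * t⁻¹) := by group
    calc w * (t * c * t⁻¹) = w * ((t * c * t⁻¹) * w⁻¹) * w := by group
      _ = w * (w⁻¹ * (t * c * t⁻¹)) * w := by rw [h2]
      _ = t * c * t⁻¹ * w := by group
  have htN : t ∈ Nz (P : Subgroup G) := by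
    rw [hP, Subgroup.mem_normalizer_iff]
    intro c
    refine ⟨hconj c, fun hc => ?_⟩
    have := hconj _ hc
    rw [htinv] at this
    have e : t * (t * c * t) * t = c := by
      calc t * (t * c * t) * t = (t * t) * c * (t * t) := by group
        _ = c := by rw [htt]; simp
    rwa [e] at this
  apply inv_of_fpf (P : Subgroup G) (h.sb.pab P) t htt htN
  intro c hc hct
  by_contra hc1
  have hcC : c ∈ Cz (Q : Subgroup G) := by
    apply hA3 Q t ht ht1
    rw [Subgroup.mem_centralizer_iff]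
    intro y hy
    rw [Set.mem_singleton_iff] at hy
    subst hy
    exact hct
  have hcN := hA2 Q c hcC hc1 (PE_of_mem_pgroup P.2 hc)
  have hwc : w ∈ Ce c := by
    rw [hP] at hc
    rw [Subgroup.mem_centralizer_iff]
    intro y hy
    rw [Set.mem_singleton_iff] at hy
    subst hy
    exact (Subgroup.mem_centralizer_iff.mp hc w rfl).symm
  have hwN := hcN hwc
  have hsN : s ∈ Nz (Q : Subgroup G) := by
    have h1 : t⁻¹ * w ∈ Nz (Q : Subgroup G) :=
      Subgroup.mul_mem _ (Subgroup.inv_mem _ (Subgroup.le_normalizer ht)) hwN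
    have e : t⁻¹ * w = s := by rw [hw]; group
    rwa [e] at h1
  exact hsQ (pin Q hsN ⟨1, by rw [hs, pow_one]⟩)

end Cfsg.Agent.Lib.Helper59.TP
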