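import Cfsg.Agent.Lib.Helper59.TP.A4
import Cfsg.Agent.Lib.Helper59.CY.G1

set_option autoImplicit false

namespace Cfsg.Agent.Lib.Helper59.TP

open Cfsg.Agent.Lib.Helper59.CY

variable {G : Type*} [Group G] [Finite G] {p a : ℕ}

/-- A7 -/
theorem a_final (h : GF p a G)
    (hA2 : ∀ Q : Sylow 2 G, ∀ z ∈ Cz (Q : Subgroup G), z ≠ 1 → PE p z → Ce z ≤ Nz (Q : Subgroup G))
    (Q : Sylow 2 G) (z : G) (hz : z ∈ Cz (Q : Subgroup G)) (hz1 : z ≠ 1) (hzp : PE p z)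
    (P : Sylow p G) (t : G) (ht : orderOf t = 2) (hinv : ∀ y ∈ (P : Subgroup G), t * y * t⁻¹ = y⁻¹) :
    False := by
  haveI : Fact p.Prime := ⟨h.sb.pp⟩
  haveI : Fact (Nat.Prime 2) := ⟨Nat.prime_two⟩
  obtain ⟨-, -, hp2, -⟩ := A4_arith h.sb
  -- a Sylow `p`-subgroup containing `z`
  obtain ⟨k, hk⟩ := hzp
  have hzg : IsPGroup p (Subgroup.zpowers z) := by
    apply IsPGroup.of_card (n := k)
    rw [Nat.card_zpowers, hk]
  obtain ⟨P', hP'⟩ := hzg.exists_le_sylow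
  have hzP' : z ∈ (P' : Subgroup G) := hP' (Subgroup.mem_zpowers z)
  obtain ⟨g, rfl⟩ := MulAction.exists_smul_eq G P P'
  set u := g * t * g⁻¹ with hu
  have hz0 : g⁻¹ * z * g ∈ (P : Subgroup G) := by
    rw [← A0_mem_smul p g]
    have e : g * (g⁻¹ * z * g) * g⁻¹ = z := by group
    rw [e]
    exact hzP'
  have huz : u * z * u⁻¹ = z⁻¹ := by
    have h1 := hinv _ hz0
    calc u * z * u⁻¹ = g * (t * (g⁻¹ * z * g) * t⁻¹) * g⁻¹ := by rw [hu]; group
      _ = g * (g⁻¹ * z * g)⁻¹ * g⁻¹ := by rw [h1]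
      _ = z⁻¹ := by group
  have hu2 : orderOf u = 2 := by rw [hu, A0_orderOf_conj, ht]
  have hCN := hA2 Q z hz hz1 ⟨k, hk⟩
  -- `u` normalises `Q`
  have hconj : ∀ v : G, (v * z * v⁻¹ = z⁻¹) → ∀ x ∈ (Q : Subgroup G), v * x * v⁻¹ ∈ (Q : Subgroup G) := by
    intro v hv x hx
    have hxz : x * z = z * x := Subgroup.mem_centralizer_iff.mp hz x hx
    have h1 : v * x * v⁻¹ ∈ Ce z := by
      rw [Subgroup.mem_centralizer_iff]
      intro y hy
      rw [Set.mem_singleton_iff] at hy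
      subst hy
      -- `v x v⁻¹` commutes with `z⁻¹ = v z v⁻¹`, hence with `z`
      have h2 : (v * x * v⁻¹) * y⁻¹ = y⁻¹ * (v * x * v⁻¹) := by
        rw [← hv]
        calc v * x * v⁻¹ * (v * y * v⁻¹) = v * (x * y) * v⁻¹ := by group
          _ = v * (y * x) * v⁻¹ := by rw [hxz]
          _ = v * y * v⁻¹ * (v * x * v⁻¹) := by group
      calc y * (v * x * v⁻¹) = y * ((v * x * v⁻¹) * y⁻¹) * y := by group
        _ = y * (y⁻¹ * (v * x * v⁻¹)) * y := by rw [h2]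
        _ = v * x * v⁻¹ * y := by group
    apply pin Q (hCN h1)
    by_cases hx1 : x = 1
    · exact ⟨0, by rw [hx1]; simp⟩
    · refine ⟨1, ?_⟩
      rw [A0_orderOf_conj, pow_one]
      apply orderOf_eq_prime _ hx1
      rw [pow_two]
      exact h.el Q x hx
  have huz' : u⁻¹ * z * u⁻¹⁻¹ = z⁻¹ := by
    have : z = u⁻¹ * z⁻¹ * u := by rw [← huz]; group
    calc u⁻¹ * z * u⁻¹⁻¹ = u⁻¹ * z * u := by group
      _ = (u⁻¹ * z⁻¹ * u)⁻¹ := by group
      _ = z⁻¹ := by rw [← this]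
  have huN : u ∈ Nz (Q : Subgroup G) := by
    rw [Subgroup.mem_normalizer_iff]
    intro x
    refine ⟨hconj u huz x, fun hx => ?_⟩
    have := hconj u⁻¹ huz' _ hx
    simpa [mul_assoc] using this
  have huQ : u ∈ (Q : Subgroup G) := pin Q huN ⟨1, by rw [hu2, pow_one]⟩
  have hcomm : u * z = z * u := Subgroup.mem_centralizer_iff.mp hz u huQ
  have hzz : z = z⁻¹ := by
    rw [← huz, hcomm]
    group
  have hz2 : z ^ 2 = 1 := by
    rw [pow_two]
    nth_rewrite 2 [hzz]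
    exact mul_inv_cancel z
  have hd : orderOf z ∣ 2 := orderOf_dvd_of_pow_eq_one hz2
  rw [hk] at hd
  rcases Nat.eq_zero_or_pos k with rfl | hkpos
  · rw [pow_zero, orderOf_eq_one_iff] at hk
    exact hz1 hk
  · have : p ∣ 2 := (dvd_pow_self p hkpos.ne').trans hd
    exact hp2 ((Nat.prime_dvd_prime_iff_eq h.sb.pp Nat.prime_two).mp this)

end Cfsg.Agent.Lib.Helper59.TP
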