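import Cfsg.Agent.Lib.Helper59.TP.Base
import Cfsg.Agent.Lib.Helper59.CY.G1

/-! # S4017 farm TP (helper59), piece B1 (helper84) -/

set_option autoImplicit false

namespace Cfsg.Agent.Lib.Helper59.TP

open Cfsg.Agent.Lib.Helper59.CY

variable {G : Type*} [Group G] [Finite G] {p a : ℕ}

omit [Finite G] in
theorem B1_mem_ce (x g : G) : g ∈ Ce x ↔ x * g = g * x := by
  rw [Subgroup.mem_centralizer_iff]
  simp

omit [Finite G] in
theorem B1_sq {t : G} (ht : orderOf t = 2) : t * t = 1 := by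
  rw [← sq, ← ht, pow_orderOf_eq_one]

omit [Finite G] in
theorem B1_ne {t : G} (ht : orderOf t = 2) : t ≠ 1 := by
  rintro rfl
  simp at ht

theorem B1_ce_le (h : GF p a G) (hY : ∀ t : G, orderOf t = 2 → Yt p t = ⊥) (e : G)
    (he : orderOf e = 2) : ∃ Q : Sylow 2 G, Ce e ≤ (Q : Subgroup G) := by
  have h1 := h.yc e he
  rw [hY e he, Subgroup.card_bot, one_mul] at h1
  exact (IsPGroup.of_card h1).exists_le_sylow

/-- B1 -/
theorem b_nc (h : GF p a G) (hY : ∀ t : G, orderOf t = 2 → Yt p t = ⊥) (s t : G) (hs : orderOf s = 2)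
    (ht : orderOf t = 2) (hst : s * t ≠ t * s) : PE p (t * s) := by
  rcases h.prod s t hs ht with h1 | ⟨e, he, het, hes⟩
  · exact h1
  · exfalso
    obtain ⟨Q, hQ⟩ := B1_ce_le h hY e he
    have hsQ : s ∈ (Q : Subgroup G) := hQ ((B1_mem_ce e s).2 hes)
    have htQ : t ∈ (Q : Subgroup G) := hQ ((B1_mem_ce e t).2 het)
    have h1 := h.el Q (s * t) (mul_mem hsQ htQ)
    have h2 := B1_sq hs
    have h3 := B1_sq ht
    apply hst
    calc s * t = s * (s * t * (s * t)) * t := by rw [h1, mul_one]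
      _ = (s * s) * (t * s) * (t * t) := by group
      _ = t * s := by rw [h2, h3, one_mul, mul_one]

end Cfsg.Agent.Lib.Helper59.TP
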