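import Cfsg.Agent.Lib.Helper59.TP.Base

set_option autoImplicit false

namespace Cfsg.Agent.Lib.Helper59.TP

open Cfsg.Agent.Lib.Helper59.CY

variable {G : Type*} [Group G] [Finite G] {p a : ℕ}

/-- B10 -/
theorem b_cardI (h : GF p a G) (hY : ∀ t : G, orderOf t = 2 → Yt p t = ⊥) :
    Nat.card {e : G // orderOf e = 2} * 2 ^ a = Nat.card G := by
  classical
  have : Fact (Nat.Prime 2) := ⟨Nat.prime_two⟩
  have h2 : 2 ∣ Nat.card G := by
    let Q : Sylow 2 G := default
    have h1 := h.sb.card2 Q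
    have hd : Nat.card (Q : Subgroup G) ∣ Nat.card G := Subgroup.card_subgroup_dvd_card _
    rw [h1] at hd
    exact dvd_trans (dvd_pow_self 2 (by have := h.sb.ha; omega)) hd
  obtain ⟨t, ht⟩ := exists_prime_orderOf_dvd_card' 2 h2
  have hC : Nat.card (Ce t) = 2 ^ a := by
    rw [h.yc t ht, hY t ht]; simp
  have horb : MulAction.orbit (ConjAct G) t = {e : G | orderOf e = 2} := by
    ext e
    rw [MulAction.mem_orbit_iff, Set.mem_ofPred_eq]
    constructor
    · rintro ⟨g, rfl⟩
      rw [ConjAct.smul_def, ← MulAut.conj_apply, MulEquiv.orderOf_eq]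
      exact ht
    · intro he
      obtain ⟨g, hg⟩ := h.cj t e ht he
      exact ⟨ConjAct.toConjAct g, by rw [ConjAct.smul_def]; exact hg⟩
  have h3 := Subgroup.card_mul_index (MulAction.stabilizer (ConjAct G) t)
  rw [MulAction.index_stabilizer, horb, ← Subgroup.nat_card_centralizer_nat_card_stabilizer] at h3
  have h4 : Nat.card (ConjAct G) = Nat.card G := rfl
  rw [h4] at h3
  have h5 : Nat.card {e : G // orderOf e = 2} = ({e : G | orderOf e = 2} : Set G).ncard :=
    Nat.card_coe_set_eq _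
  rw [h5, ← h3, mul_comm]
  congr 1
  exact hC.symm

end Cfsg.Agent.Lib.Helper59.TP
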