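import Cfsg.Agent.Lib.Helper59.TP.Base

set_option autoImplicit false

namespace Cfsg.Agent.Lib.Helper59.TP

open Cfsg.Agent.Lib.Helper59.CY

variable {p a : ℕ}

/-- B11 : arithmetic -/
theorem b_arith (pp : p.Prime) (ha : 2 ≤ a) (hpa : p = 2 ^ a - 1) (g i n P k : ℕ) (hP : P = p ^ (k + 1))
    (h1 : i * 2 ^ a = g) (h2 : n * (2 * P) = g) (h3 : n * (P * (P - 1)) = i * (i - p)) (hg : 0 < g) :
    False := by
  obtain ⟨b, rfl⟩ : ∃ b, a = b + 1 := ⟨a - 1, by omega⟩
  have hb : 1 ≤ b := by omega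
  have hA2 : 2 ≤ 2 ^ b := by
    calc 2 = 2 ^ 1 := rfl
      _ ≤ 2 ^ b := Nat.pow_le_pow_right (by norm_num) hb
  have hcop : Nat.Coprime P (2 ^ b) := by
    rw [hP]
    apply Nat.Coprime.pow
    rw [Nat.coprime_primes pp Nat.prime_two]
    rw [pow_succ] at hpa
    omega
  have hpP : p ≤ P := by
    rw [hP]
    exact Nat.le_self_pow (by omega) p
  rw [pow_succ] at hpa h1
  generalize 2 ^ b = A at *
  have hi : 0 < i := by
    rcases Nat.eq_zero_or_pos i with h | h
    · rw [h, zero_mul] at h1; omega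
    · exact h
  have e1 : i * A = n * P := by
    have : 2 * (i * A) = 2 * (n * P) := by
      calc 2 * (i * A) = i * (A * 2) := by ring
        _ = g := h1
        _ = n * (2 * P) := h2.symm
        _ = 2 * (n * P) := by ring
    omega
  have e2 : i * (A * (P - 1)) = i * (i - p) := by
    calc i * (A * (P - 1)) = (i * A) * (P - 1) := by ring
      _ = (n * P) * (P - 1) := by rw [e1]
      _ = n * (P * (P - 1)) := by ring
      _ = i * (i - p) := h3
  have e3 : A * (P - 1) = i - p := Nat.eq_of_mul_eq_mul_left hi e2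
  have hp3 : 3 ≤ p := by omega
  obtain ⟨P', rfl⟩ : ∃ P', P = P' + 1 := ⟨P - 1, by omega⟩
  have hP' : 2 ≤ P' := by omega
  rw [Nat.add_sub_cancel] at e3
  have hpos : 0 < A * P' := Nat.mul_pos (by omega) (by omega)
  have e4 : i = A * (P' + 1) + (A - 1) := by
    have : A * (P' + 1) = A * P' + A := by ring
    omega
  have d1 : (P' + 1) ∣ i := by
    apply hcop.dvd_of_dvd_mul_right
    rw [e1]
    exact Dvd.intro_left n rfl
  rw [e4] at d1
  have d2 : (P' + 1) ∣ A - 1 := (Nat.dvd_add_right (Dvd.intro_left A rfl)).1 d1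
  have := Nat.le_of_dvd (by omega) d2
  omega

end Cfsg.Agent.Lib.Helper59.TP
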