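import Cfsg.Agent.Lib.Helper59.TP.B1

/-! # S4017 farm TP (helper59), piece B2 (helper84) -/

set_option autoImplicit false

namespace Cfsg.Agent.Lib.Helper59.TP

open Cfsg.Agent.Lib.Helper59.CY

variable {G : Type*} [Group G] [Finite G] {p a : ℕ}

/-- B2 -/
theorem b_odd (h : GF p a G) (hY : ∀ t : G, orderOf t = 2 → Yt p t = ⊥) (w : G) (hw : w ≠ 1)
    (hwp : PE p w) : ¬ 2 ∣ Nat.card (Ce w) := by
  intro h2
  obtain ⟨e, he⟩ := exists_prime_orderOf_dvd_card' 2 h2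
  have he' : orderOf (e : G) = 2 := by rw [Subgroup.orderOf_coe, he]
  have hc : w * (e : G) = e * w := (B1_mem_ce w e).1 e.2
  have hm : w ∈ Yt p (e : G) := Subgroup.subset_closure ⟨hc, hwp⟩
  rw [hY _ he', Subgroup.mem_bot] at hm
  exact hw hm

end Cfsg.Agent.Lib.Helper59.TP
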