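import Cfsg.Agent.Lib.Helper59.TP.B1
import Cfsg.Agent.Lib.Helper59.TP.T1

/-! # S4017 farm TP (helper59), piece B3 (helper84) -/

set_option autoImplicit false

namespace Cfsg.Agent.Lib.Helper59.TP

open Cfsg.Agent.Lib.Helper59.CY

variable {G : Type*} [Group G] [Finite G] {p a : ℕ}

/-- B3 -/
theorem b_inv (h : GF p a G) (hY : ∀ t : G, orderOf t = 2 → Yt p t = ⊥) (P : Sylow p G) (e : G)
    (he : orderOf e = 2) (heP : e ∈ Nz (P : Subgroup G)) : ∀ y ∈ (P : Subgroup G), e * y * e⁻¹ = y⁻¹ := by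
  have : Fact p.Prime := ⟨h.sb.pp⟩
  refine inv_of_fpf (P : Subgroup G) (h.sb.pab P) e (B1_sq he) heP ?_
  intro y hy hc
  have hm : y ∈ Yt p e := Subgroup.subset_closure ⟨hc.symm, PE_of_mem_pgroup P.2 hy⟩
  rw [hY _ he, Subgroup.mem_bot] at hm
  exact hm

end Cfsg.Agent.Lib.Helper59.TP
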