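import Cfsg.Agent.Lib.Helper59.TP.Base

set_option autoImplicit false

namespace Cfsg.Agent.Lib.Helper59.TP

open Cfsg.Agent.Lib.Helper59.CY

variable {G : Type*} [Group G] [Finite G] {p a : ℕ}

theorem T2_mem_nz (g w : G) (h : g * w * g⁻¹ ∈ Subgroup.zpowers w)
    (h' : g⁻¹ * w * g ∈ Subgroup.zpowers w) : g ∈ Nz (Subgroup.zpowers w) := by
  rw [Subgroup.mem_normalizer_iff]
  intro k
  constructor
  · rintro ⟨n, rfl⟩
    change g * w ^ n * g⁻¹ ∈ _
    rw [← conj_zpow]
    exact Subgroup.zpow_mem _ h n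
  · rintro ⟨n, hn⟩
    have hn' : w ^ n = g * k * g⁻¹ := hn
    have e : k = (g⁻¹ * w * g) ^ n := by
      have e1 : (g⁻¹ * w * g) ^ n = g⁻¹ * w ^ n * g := by
        have := conj_zpow (a := g⁻¹) (b := w) (i := n)
        rw [inv_inv] at this
        exact this
      rw [e1, hn']
      group
    rw [e]
    exact Subgroup.zpow_mem _ h' n

/-- T2 : a real `p`-element with centralizer of odd order has a Sylow `p`-subgroup as centralizer -/
theorem ce_syl (h : GF p a G) (w t : G) (hw : w ≠ 1) (hwp : PE p w) (ht : orderOf t = 2)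
    (hinv : t * w * t⁻¹ = w⁻¹) (hodd : ¬ 2 ∣ Nat.card (Ce w)) :
    ∃ P : Sylow p G, (P : Subgroup G) = Ce w := by
  have : Fact p.Prime := ⟨h.sb.pp⟩
  have hZ1 : Subgroup.zpowers w ≠ ⊥ := by
    intro h0
    exact hw (Subgroup.zpowers_eq_bot.1 h0)
  have hZ2 : Subgroup.zpowers w ≠ ⊤ := by
    intro h0
    apply h.zc w hw
    rw [eq_top_iff]
    intro k _
    have hk : k ∈ Subgroup.zpowers w := by rw [h0]; trivial
    obtain ⟨n, rfl⟩ := hk
    rw [Subgroup.mem_centralizer_singleton_iff]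
    change w ^ n * w = w * w ^ n
    exact (Commute.zpow_left (Commute.refl w) n).eq
  have hN := h.nn _ hZ1 hZ2
  have htN : t ∈ Nz (Subgroup.zpowers w) := by
    apply T2_mem_nz
    · rw [hinv]
      exact Subgroup.inv_mem _ (Subgroup.mem_zpowers w)
    · have e : t⁻¹ * w * t = w⁻¹ := by
        have e1 : w = t⁻¹ * w⁻¹ * t := by rw [← hinv]; group
        calc t⁻¹ * w * t = (t⁻¹ * w⁻¹ * t)⁻¹ := by group
          _ = w⁻¹ := by rw [← e1]
      rw [e]
      exact Subgroup.inv_mem _ (Subgroup.mem_zpowers w)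
  have h2N : 2 ∣ Nat.card (Nz (Subgroup.zpowers w)) := by
    have h1 := orderOf_dvd_natCard (⟨t, htN⟩ : Nz (Subgroup.zpowers w))
    rwa [Subgroup.orderOf_mk, ht] at h1
  obtain ⟨i, j, hij⟩ := h.sb.E _ hN h2N
  have hle : Ce w ≤ Nz (Subgroup.zpowers w) := by
    intro c hc
    rw [Subgroup.mem_centralizer_singleton_iff] at hc
    apply T2_mem_nz
    · have : c * w * c⁻¹ = w := by rw [hc]; group
      rw [this]
      exact Subgroup.mem_zpowers w
    · have : c⁻¹ * w * c = w := by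
        calc c⁻¹ * w * c = c⁻¹ * (w * c) := by group
          _ = c⁻¹ * (c * w) := by rw [hc]
          _ = w := by group
      rw [this]
      exact Subgroup.mem_zpowers w
  have hd : Nat.card (Ce w) ∣ 2 ^ i * p ^ j := by
    rw [← hij]
    exact Subgroup.card_dvd_of_le hle
  have hcop : Nat.Coprime (Nat.card (Ce w)) (2 ^ i) := by
    apply Nat.Coprime.pow_right
    exact ((Nat.Prime.coprime_iff_not_dvd Nat.prime_two).2 hodd).symm
  have hd2 : Nat.card (Ce w) ∣ p ^ j := hcop.dvd_of_dvd_mul_left hd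
  obtain ⟨k, -, hk⟩ := (Nat.dvd_prime_pow h.sb.pp).1 hd2
  have hpg : IsPGroup p (Ce w) := IsPGroup.of_card hk
  obtain ⟨P, hP⟩ := hpg.exists_le_sylow
  refine ⟨P, le_antisymm ?_ hP⟩
  intro y hy
  rw [Subgroup.mem_centralizer_singleton_iff]
  exact h.sb.pab P y hy w (hP (Subgroup.mem_centralizer_singleton_iff.2 rfl))

end Cfsg.Agent.Lib.Helper59.TP
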