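import Cfsg.Agent.Lib.Helper59.TP.B2
import Cfsg.Agent.Lib.Helper59.TP.T2

/-! # S4017 farm TP (helper59), piece B4 (helper84) -/

set_option autoImplicit false

namespace Cfsg.Agent.Lib.Helper59.TP

open Cfsg.Agent.Lib.Helper59.CY

variable {G : Type*} [Group G] [Finite G] {p a : ℕ}

theorem B4_ex_nc (h : GF p a G) : ∃ s t : G, orderOf s = 2 ∧ orderOf t = 2 ∧ s * t ≠ t * s := by
  by_contra hcon
  push Not at hcon
  have hcomm : ∀ x y : G, x * x = 1 → y * y = 1 → x * y = y * x := by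
    intro x y hx hy
    by_cases hx1 : x = 1
    · rw [hx1]; simp
    by_cases hy1 : y = 1
    · rw [hy1]; simp
    exact hcon x y (orderOf_eq_prime (by rw [sq, hx]) hx1) (orderOf_eq_prime (by rw [sq, hy]) hy1)
  let E : Subgroup G :=
    { carrier := {g | g * g = 1}
      mul_mem' := by
        intro x y hx hy
        have hx' : x * x = 1 := hx
        have hy' : y * y = 1 := hy
        change x * y * (x * y) = 1
        rw [hcomm x y hx hy]
        calc y * x * (y * x) = y * (x * y) * x := by group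
          _ = y * (y * x) * x := by rw [hcomm x y hx hy]
          _ = (y * y) * (x * x) := by group
          _ = 1 := by rw [hx', hy', one_mul]
      one_mem' := by simp
      inv_mem' := by
        intro x hx
        have hx' : x * x = 1 := hx
        change x⁻¹ * x⁻¹ = 1
        rw [← mul_inv_rev, hx', inv_one] }
  have hEn : E.Normal := by
    constructor
    intro x hx g
    have hx' : x * x = 1 := hx
    change g * x * g⁻¹ * (g * x * g⁻¹) = 1
    calc g * x * g⁻¹ * (g * x * g⁻¹) = g * (x * x) * g⁻¹ := by group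
      _ = 1 := by rw [hx']; group
  -- an involution
  obtain ⟨Q⟩ : Nonempty (Sylow 2 G) := inferInstance
  have h2 : 2 ∣ Nat.card G := by
    have h1 := h.sb.card2 Q
    have h3 : 2 ∣ Nat.card (Q : Subgroup G) := by
      rw [h1]
      exact dvd_pow_self 2 (by have := h.sb.ha; omega)
    exact h3.trans (Subgroup.card_subgroup_dvd_card _)
  obtain ⟨t, ht⟩ := exists_prime_orderOf_dvd_card' 2 h2
  rcases h.sb.simp E hEn with hE | hE
  · have : t ∈ E := B1_sq ht
    rw [hE, Subgroup.mem_bot] at this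
    exact B1_ne ht this
  · apply h.zc t (B1_ne ht)
    rw [eq_top_iff]
    intro g _
    rw [B1_mem_ce]
    have hg : g ∈ E := by rw [hE]; trivial
    exact hcomm t g (B1_sq ht) hg

/-- B4 -/
theorem b_ex (h : GF p a G) (hY : ∀ t : G, orderOf t = 2 → Yt p t = ⊥) (P : Sylow p G) :
    ∃ e : G, orderOf e = 2 ∧ e ∈ Nz (P : Subgroup G) := by
  have : Fact p.Prime := ⟨h.sb.pp⟩
  obtain ⟨s, t, hs, ht, hst⟩ := B4_ex_nc h
  have hs2 := B1_sq hs
  have ht2 := B1_sq ht
  have hsi : s⁻¹ = s := inv_eq_of_mul_eq_one_left hs2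
  have hti : t⁻¹ = t := inv_eq_of_mul_eq_one_left ht2
  have hwp := b_nc h hY s t hs ht hst
  have hw1 : t * s ≠ 1 := by
    intro h1
    apply hst
    have : t = s := by rw [← hsi]; exact eq_inv_of_mul_eq_one_left h1
    rw [this]
  have hinv : t * (t * s) * t⁻¹ = (t * s)⁻¹ := by
    rw [mul_inv_rev, hsi, hti, ← mul_assoc, ht2, one_mul]
  obtain ⟨P', hP'⟩ := ce_syl h (t * s) t hw1 hwp ht hinv (b_odd h hY _ hw1 hwp)
  have htN : t ∈ Nz (P' : Subgroup G) := by
    rw [hP', Subgroup.mem_normalizer_iff]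
    intro x
    rw [B1_mem_ce, B1_mem_ce]
    have hinv' : t⁻¹ * (t * s) * t = (t * s)⁻¹ := by
      rw [mul_inv_rev, hsi, hti, ← mul_assoc, ht2, one_mul]
    constructor
    · intro hx
      have h1 : (t * s)⁻¹ * x = x * (t * s)⁻¹ := by
        rw [inv_mul_eq_iff_eq_mul, ← mul_assoc, hx, mul_assoc, mul_inv_cancel, mul_one]
      calc t * s * (t * x * t⁻¹) = t * ((t⁻¹ * (t * s) * t) * x) * t⁻¹ := by group
        _ = t * (x * (t⁻¹ * (t * s) * t)) * t⁻¹ := by rw [hinv', h1]
        _ = t * x * t⁻¹ * (t * s) := by group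
    · intro hx
      have h2 : (t * s)⁻¹ * x = x * (t * s)⁻¹ := by
        calc (t * s)⁻¹ * x = t⁻¹ * ((t * s) * (t * x * t⁻¹)) * t := by rw [← hinv']; group
          _ = t⁻¹ * ((t * x * t⁻¹) * (t * s)) * t := by rw [hx]
          _ = x * (t * s)⁻¹ := by rw [← hinv']; group
      rw [inv_mul_eq_iff_eq_mul, ← mul_assoc, eq_mul_inv_iff_mul_eq] at h2
      exact h2.symm
  obtain ⟨g, hg⟩ := MulAction.exists_smul_eq G P' P
  refine ⟨g * t * g⁻¹, ?_, ?_⟩
  · rw [← ht, ← MulAut.conj_apply]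
    exact (MulAut.conj g).orderOf_eq t
  · apply Sylow.smul_eq_iff_mem_normalizer.1
    rw [← hg, smul_smul, inv_mul_cancel_right, mul_smul, Sylow.smul_eq_iff_mem_normalizer.2 htN]

end Cfsg.Agent.Lib.Helper59.TP
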