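import Cfsg.Agent.Lib.Helper59.TP.B3
import Cfsg.Agent.Lib.Helper59.TP.B4

/-! # S4017 farm TP (helper59), piece B5 (helper84) -/

set_option autoImplicit false

namespace Cfsg.Agent.Lib.Helper59.TP

open Cfsg.Agent.Lib.Helper59.CY

variable {G : Type*} [Group G] [Finite G] {p a : ℕ}

/-- B5 -/
theorem b_ce (h : GF p a G) (hY : ∀ t : G, orderOf t = 2 → Yt p t = ⊥) (P : Sylow p G) (y : G)
    (hy : y ∈ (P : Subgroup G)) (hy1 : y ≠ 1) : Ce y = (P : Subgroup G) := by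
  have : Fact p.Prime := ⟨h.sb.pp⟩
  obtain ⟨e, he, heP⟩ := b_ex h hY P
  have hyp : PE p y := PE_of_mem_pgroup P.2 hy
  obtain ⟨P', hP'⟩ := ce_syl h y e hy1 hyp he (b_inv h hY P e he heP y hy) (b_odd h hY y hy1 hyp)
  have hle : (P : Subgroup G) ≤ P' := by
    rw [hP']
    intro x hx
    rw [B1_mem_ce]
    exact h.sb.pab P y hy x hx
  rw [← hP']
  exact P.3 P'.2 hle

end Cfsg.Agent.Lib.Helper59.TP
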