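import Cfsg.Agent.Lib.Helper59.TP.Z1

set_option autoImplicit false

namespace Cfsg.Agent.Lib.Helper59.TP

open Cfsg.Agent.Lib.Helper59.CY

variable {G : Type*} [Group G] [Finite G] {p a : ℕ}

/-- B6 aux : a Sylow `p`-subgroup has a non trivial element -/
theorem B6_exists_ne_one (h : GF p a G) (P : Sylow p G) : ∃ y ∈ (P : Subgroup G), y ≠ 1 := by
  have : Fact p.Prime := ⟨h.sb.pp⟩
  have h1 : (P : Subgroup G) ≠ ⊥ := P.ne_bot_of_dvd_card h.sb.pdvd
  obtain ⟨y, hy⟩ := (Subgroup.ne_bot_iff_exists_ne_one).mp h1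
  exact ⟨(y : G), y.2, fun h => hy (Subtype.ext h)⟩

/-- B6 aux : no involution in a Sylow `p`-subgroup -/
theorem B6_invol_not_mem (h : GF p a G) (P : Sylow p G) (e : G) (he : orderOf e = 2) :
    e ∉ (P : Subgroup G) := by
  intro hm
  have : Fact p.Prime := ⟨h.sb.pp⟩
  obtain ⟨k, hk⟩ := (IsPGroup.iff_orderOf.mp P.2) ⟨e, hm⟩
  rw [Subgroup.orderOf_mk, he] at hk
  have h2 : 2 ∣ p ^ k := by rw [← hk]
  have := (Nat.prime_dvd_prime_iff_eq Nat.prime_two h.sb.pp).mp (Nat.prime_two.dvd_of_dvd_pow h2)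
  exact Z1_p_ne_two h.sb this.symm

/-- B6 aux : the product of two involutions of `N(P)` lies in `P` -/
theorem B6_mul_mem (h : GF p a G)
    (hB3 : ∀ (P : Sylow p G) (e : G), orderOf e = 2 → e ∈ Nz (P : Subgroup G) →
      ∀ y ∈ (P : Subgroup G), e * y * e⁻¹ = y⁻¹)
    (hB5 : ∀ (P : Sylow p G) (y : G), y ∈ (P : Subgroup G) → y ≠ 1 → Ce y = (P : Subgroup G))
    (P : Sylow p G) (e e' : G) (he : orderOf e = 2) (heN : e ∈ Nz (P : Subgroup G))
    (he' : orderOf e' = 2) (heN' : e' ∈ Nz (P : Subgroup G)) : e * e' ∈ (P : Subgroup G) := by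
  obtain ⟨y, hy, hy1⟩ := B6_exists_ne_one h P
  rw [← hB5 P y hy hy1, Subgroup.mem_centralizer_singleton_iff]
  have h1 := hB3 P e' he' heN' y hy
  have h2 := hB3 P e he heN y⁻¹ (inv_mem hy)
  rw [inv_inv] at h2
  have h3 : (e * e') * y * (e * e')⁻¹ = y := by
    rw [mul_inv_rev]
    calc e * e' * y * (e'⁻¹ * e⁻¹) = e * (e' * y * e'⁻¹) * e⁻¹ := by group
      _ = y := by rw [h1, h2]
  have h4 : e * e' * y = y * (e * e') := by
    calc e * e' * y = (e * e' * y * (e * e')⁻¹) * (e * e') := by group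
      _ = y * (e * e') := by rw [h3]
  exact h4

/-- B6 -/
theorem b_invs (h : GF p a G)
    (hB3 : ∀ (P : Sylow p G) (e : G), orderOf e = 2 → e ∈ Nz (P : Subgroup G) →
      ∀ y ∈ (P : Subgroup G), e * y * e⁻¹ = y⁻¹)
    (hB4 : ∀ P : Sylow p G, ∃ e : G, orderOf e = 2 ∧ e ∈ Nz (P : Subgroup G))
    (hB5 : ∀ (P : Sylow p G) (y : G), y ∈ (P : Subgroup G) → y ≠ 1 → Ce y = (P : Subgroup G))
    (P : Sylow p G) :
    Nat.card {e : G // orderOf e = 2 ∧ e ∈ Nz (P : Subgroup G)} = Nat.card (P : Subgroup G) := by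
  obtain ⟨e0, he0, he0N⟩ := hB4 P
  have hee : e0 * e0 = 1 := by rw [← pow_two, ← he0]; exact pow_orderOf_eq_one e0
  have hei : e0⁻¹ = e0 := inv_eq_of_mul_eq_one_left hee
  have hmap : ∀ y ∈ (P : Subgroup G), orderOf (y * e0) = 2 ∧ y * e0 ∈ Nz (P : Subgroup G) := by
    intro y hy
    refine ⟨?_, mul_mem (Subgroup.le_normalizer hy) he0N⟩
    have h1 := hB3 P e0 he0 he0N y hy
    rw [hei] at h1
    have h2 : (y * e0) ^ 2 = 1 := by
      rw [pow_two]
      calc y * e0 * (y * e0) = y * (e0 * y * e0) := by group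
        _ = 1 := by rw [h1, mul_inv_cancel]
    have h3 : y * e0 ≠ 1 := by
      intro h4
      apply B6_invol_not_mem h P e0 he0
      have : e0 = y⁻¹ := (inv_eq_of_mul_eq_one_right h4).symm
      rw [this]
      exact inv_mem hy
    exact orderOf_eq_prime h2 h3
  symm
  refine Nat.card_congr (Equiv.ofBijective
    (fun y : (P : Subgroup G) => (⟨(y : G) * e0, hmap y y.2⟩ :
      {e : G // orderOf e = 2 ∧ e ∈ Nz (P : Subgroup G)})) ⟨?_, ?_⟩)
  · intro y y' hyy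
    have := congrArg Subtype.val hyy
    exact Subtype.ext (mul_right_cancel this)
  · rintro ⟨e, he, heN⟩
    refine ⟨⟨e * e0, B6_mul_mem h hB3 hB5 P e e0 he heN he0 he0N⟩, ?_⟩
    apply Subtype.ext
    show e * e0 * e0 = e
    rw [mul_assoc, hee, mul_one]

end Cfsg.Agent.Lib.Helper59.TP
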