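import Cfsg.Agent.Lib.Helper59.TP.B6

set_option autoImplicit false

namespace Cfsg.Agent.Lib.Helper59.TP

open Cfsg.Agent.Lib.Helper59.CY

variable {G : Type*} [Group G] [Finite G] {p a : ℕ}

/-- B7 aux : a `p`-element of `N(P)` lies in `P` -/
theorem B7_pe_mem (pp : p.Prime) (P : Sylow p G) (x : G) (hx : x ∈ Nz (P : Subgroup G)) (k : ℕ)
    (hk : x ^ (p ^ k) = 1) : x ∈ (P : Subgroup G) := by
  have : Fact p.Prime := ⟨pp⟩
  have h1 : IsPGroup p (Subgroup.zpowers x) := by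
    obtain ⟨j, -, hj⟩ := (Nat.dvd_prime_pow pp).mp (orderOf_dvd_of_pow_eq_one hk)
    exact IsPGroup.of_card (n := j) (by rw [Nat.card_zpowers, hj])
  have h2 := h1.inf_normalizer_sylow P
  have h3 : x ∈ Subgroup.zpowers x ⊓ (P : Subgroup G) := by
    rw [← h2]
    exact ⟨Subgroup.mem_zpowers x, hx⟩
  exact h3.2

/-- B7 aux : a `2`-element has square one -/
theorem B7_sq (h : GF p a G) (x : G) (k : ℕ) (hk : x ^ (2 ^ k) = 1) : x * x = 1 := by
  have h1 : IsPGroup 2 (Subgroup.zpowers x) := by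
    obtain ⟨j, -, hj⟩ := (Nat.dvd_prime_pow Nat.prime_two).mp (orderOf_dvd_of_pow_eq_one hk)
    exact IsPGroup.of_card (n := j) (by rw [Nat.card_zpowers, hj])
  obtain ⟨Q, hQ⟩ := h1.exists_le_sylow
  exact h.el Q x (hQ (Subgroup.mem_zpowers x))

/-- B7 aux : an element of `N(P)` lies in `P` or is an involution -/
theorem B7_dich (h : GF p a G)
    (hB3 : ∀ (P : Sylow p G) (e : G), orderOf e = 2 → e ∈ Nz (P : Subgroup G) →
      ∀ y ∈ (P : Subgroup G), e * y * e⁻¹ = y⁻¹)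
    (hB4 : ∀ P : Sylow p G, ∃ e : G, orderOf e = 2 ∧ e ∈ Nz (P : Subgroup G))
    (P : Sylow p G) (b : G) (hb : b ∈ Nz (P : Subgroup G)) :
    b ∈ (P : Subgroup G) ∨ orderOf b = 2 := by
  obtain ⟨e0, he0, he0N⟩ := hB4 P
  obtain ⟨y, hy, hy1⟩ := B6_exists_ne_one h P
  have hPbot : (P : Subgroup G) ≠ ⊥ := by
    intro h0
    rw [h0, Subgroup.mem_bot] at hy
    exact hy1 hy
  have hPtop : (P : Subgroup G) ≠ ⊤ := by
    intro h0
    apply B6_invol_not_mem h P e0 he0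
    rw [h0]; trivial
  have hNtop : Nz (P : Subgroup G) ≠ ⊤ := h.nn _ hPbot hPtop
  have h2N : 2 ∣ Nat.card (Nz (P : Subgroup G)) := by
    rw [← he0]
    exact Subgroup.orderOf_dvd_natCard _ he0N
  obtain ⟨i, j, hij⟩ := h.sb.E _ hNtop h2N
  have hbc : b ^ (2 ^ i * p ^ j) = 1 := by
    rw [← hij]
    exact orderOf_dvd_iff_pow_eq_one.mp (Subgroup.orderOf_dvd_natCard _ hb)
  set c := b ^ (p ^ j) with hc
  have hc2 : c * c = 1 := by
    apply B7_sq h c i
    rw [hc, ← pow_mul, mul_comm]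
    exact hbc
  by_cases hc1 : c = 1
  · left
    exact B7_pe_mem h.sb.pp P b hb j hc1
  right
  have hoc : orderOf c = 2 := orderOf_eq_prime (by rw [pow_two]; exact hc2) hc1
  have hcN : c ∈ Nz (P : Subgroup G) := pow_mem hb _
  set d := b ^ 2 with hd
  have hdp : d ^ (p ^ j) = 1 := by
    rw [hd, ← pow_mul, mul_comm, pow_mul, ← hc, pow_two]
    exact hc2
  have hdP : d ∈ (P : Subgroup G) := B7_pe_mem h.sb.pp P d (pow_mem hb _) j hdp
  have h1 := hB3 P c hoc hcN d hdP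
  have hcd : Commute c d := by
    rw [hc, hd]
    exact (Commute.refl b).pow_pow _ _
  have h2 : c * d * c⁻¹ = d := by rw [hcd.eq, mul_inv_cancel_right]
  have h3 : d ^ 2 = 1 := by
    rw [pow_two]
    nth_rewrite 1 [← h2]
    rw [h1, inv_mul_cancel]
  have h4 : d = 1 := by
    have hcop : Nat.Coprime 2 (p ^ j) := by
      apply Nat.Coprime.pow_right
      exact (Nat.coprime_primes Nat.prime_two h.sb.pp).mpr (Z1_p_ne_two h.sb).symm
    have h5 : orderOf d ∣ Nat.gcd 2 (p ^ j) :=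
      Nat.dvd_gcd (orderOf_dvd_of_pow_eq_one h3) (orderOf_dvd_of_pow_eq_one hdp)
    rw [hcop] at h5
    exact orderOf_eq_one_iff.mp (Nat.dvd_one.mp h5)
  refine orderOf_eq_prime h4 ?_
  intro hb1
  apply hc1
  rw [hc, hb1, one_pow]

/-- B7 -/
theorem b_cardN (h : GF p a G)
    (hB3 : ∀ (P : Sylow p G) (e : G), orderOf e = 2 → e ∈ Nz (P : Subgroup G) →
      ∀ y ∈ (P : Subgroup G), e * y * e⁻¹ = y⁻¹)
    (hB4 : ∀ P : Sylow p G, ∃ e : G, orderOf e = 2 ∧ e ∈ Nz (P : Subgroup G))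
    (hB5 : ∀ (P : Sylow p G) (y : G), y ∈ (P : Subgroup G) → y ≠ 1 → Ce y = (P : Subgroup G))
    (P : Sylow p G) : Nat.card (Nz (P : Subgroup G)) = 2 * Nat.card (P : Subgroup G) := by
  obtain ⟨e0, he0, he0N⟩ := hB4 P
  have hle : (P : Subgroup G) ≤ Nz (P : Subgroup G) := Subgroup.le_normalizer
  have hidx : ((P : Subgroup G).subgroupOf (Nz (P : Subgroup G))).index = 2 := by
    rw [Subgroup.index_eq_two_iff]
    refine ⟨⟨e0, he0N⟩, ?_⟩
    rintro ⟨b, hb⟩
    simp only [Subgroup.mem_subgroupOf, Subgroup.coe_mul]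
    rcases B7_dich h hB3 hB4 P b hb with hbP | hb2
    · right
      refine ⟨hbP, ?_⟩
      intro hm
      apply B6_invol_not_mem h P e0 he0
      have := mul_mem (inv_mem hbP) hm
      simpa using this
    · left
      exact ⟨B6_mul_mem h hB3 hB5 P b e0 hb2 hb he0 he0N, B6_invol_not_mem h P b hb2⟩
  have h1 := Subgroup.card_mul_index ((P : Subgroup G).subgroupOf (Nz (P : Subgroup G)))
  have h2 : Nat.card ((P : Subgroup G).subgroupOf (Nz (P : Subgroup G))) = Nat.card (P : Subgroup G) :=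
    Nat.card_congr (Subgroup.subgroupOfEquivOfLe hle).toEquiv
  rw [← h1, hidx, h2, mul_comm]

end Cfsg.Agent.Lib.Helper59.TP
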