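import Cfsg.Agent.Lib.Helper59.TP.Base

/-!
# Farm TP (helper59, S4017), piece B8
-/

set_option autoImplicit false
set_option linter.unusedSectionVars false
set_option linter.unusedVariables false
set_option linter.style.haveILetI false

namespace Cfsg.Agent.Lib.Helper59.TP

open Cfsg.Agent.Lib.Helper59.CY

variable {G : Type*} [Group G] [Finite G] {p a : ℕ}

theorem B8_offdiag (α : Type*) [Finite α] :
    Nat.card {x : α × α // x.1 ≠ x.2} = Nat.card α * (Nat.card α - 1) := by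
  classical
  haveI := Fintype.ofFinite α
  rw [Nat.card_eq_fintype_card, Nat.card_eq_fintype_card, Fintype.card_subtype]
  have : (Finset.univ.filter fun x : α × α => x.1 ≠ x.2) = (Finset.univ : Finset α).offDiag := by
    ext x; simp
  rw [this, Finset.offDiag_card, Finset.card_univ, Nat.mul_sub_one]

theorem B8_inv {e : G} (he : orderOf e = 2) : e * e = 1 ∧ e⁻¹ = e := by
  have h1 : e * e = 1 := by
    have := pow_orderOf_eq_one e
    rwa [he, pow_two] at this
  exact ⟨h1, inv_eq_of_mul_eq_one_left h1⟩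

theorem B8_norm {e w : G} (hw : e * w * e⁻¹ = w⁻¹) : e ∈ Nz (Ce w) := by
  have hw' : e * w⁻¹ * e⁻¹ = w := by
    have := congrArg (·⁻¹) hw
    simp only [mul_inv_rev, inv_inv] at this
    rw [← mul_assoc] at this
    exact this
  rw [Subgroup.mem_normalizer_iff]
  intro g
  rw [Subgroup.mem_centralizer_singleton_iff, Subgroup.mem_centralizer_singleton_iff]
  have h1 : Commute (e * g * e⁻¹) (e * w⁻¹ * e⁻¹) ↔ Commute g w⁻¹ := Commute.conj_iff e
  rw [hw', Commute.inv_right_iff] at h1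
  exact h1.symm

theorem B8_sq (h : GF p a G) {w : G} (hw : PE p w) (h2 : w * w = 1) : w = 1 := by
  obtain ⟨k, hk⟩ := hw
  have hp3 : 3 ≤ p := by
    have h1 : 2 ^ 2 ≤ 2 ^ a := Nat.pow_le_pow_right (by norm_num) h.sb.ha
    have h2 := h.sb.hpa
    omega
  have hd : orderOf w ∣ 2 := orderOf_dvd_of_pow_eq_one (by rw [pow_two]; exact h2)
  rcases Nat.eq_zero_or_pos k with rfl | hk0
  · simpa using hk
  · exfalso
    have : p ∣ 2 := (dvd_pow_self p hk0.ne').trans (hk ▸ hd)
    have := Nat.le_of_dvd (by norm_num) this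
    omega

theorem B8_key (h : GF p a G)
    (hB3 : ∀ (P : Sylow p G) (e : G), orderOf e = 2 → e ∈ Nz (P : Subgroup G) →
      ∀ y ∈ (P : Subgroup G), e * y * e⁻¹ = y⁻¹)
    (hB5 : ∀ (P : Sylow p G) (y : G), y ∈ (P : Subgroup G) → y ≠ 1 → Ce y = (P : Subgroup G))
    (P : Sylow p G) (e e' : G) (he : orderOf e = 2) (he' : orderOf e' = 2)
    (heN : e ∈ Nz (P : Subgroup G)) (he'N : e' ∈ Nz (P : Subgroup G)) (hne : e ≠ e') :
    e' * e ∈ (P : Subgroup G) ∧ e' * e ≠ 1 := by
  haveI : Fact p.Prime := ⟨h.sb.pp⟩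
  have hPne : (P : Subgroup G) ≠ ⊥ := Sylow.ne_bot_of_dvd_card P h.sb.pdvd
  obtain ⟨⟨y, hy⟩, hy1⟩ := Subgroup.ne_bot_iff_exists_ne_one.1 hPne
  have hy1' : y ≠ 1 := fun hh => hy1 (Subtype.ext hh)
  constructor
  · rw [← hB5 P y hy hy1', Subgroup.mem_centralizer_singleton_iff]
    have h1 := hB3 P e he heN y hy
    have h2 := hB3 P e' he' he'N y⁻¹ (inv_mem hy)
    rw [inv_inv] at h2
    calc e' * e * y = e' * (e * y * e⁻¹) * e'⁻¹ * (e' * e) := by group
      _ = y * (e' * e) := by rw [h1, h2]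
  · intro h1
    apply hne
    have := (B8_inv he').2
    rw [← this]
    exact (inv_eq_of_mul_eq_one_right h1).symm ▸ rfl

/-- B8 : the non commuting pairs of involutions, counted over the Sylow `p`-subgroups -/
theorem b_count1 (h : GF p a G) (hY : ∀ t : G, orderOf t = 2 → Yt p t = ⊥)
    (hB1 : ∀ s t : G, orderOf s = 2 → orderOf t = 2 → s * t ≠ t * s → PE p (t * s))
    (hB3 : ∀ (P : Sylow p G) (e : G), orderOf e = 2 → e ∈ Nz (P : Subgroup G) →
      ∀ y ∈ (P : Subgroup G), e * y * e⁻¹ = y⁻¹)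
    (hB5 : ∀ (P : Sylow p G) (y : G), y ∈ (P : Subgroup G) → y ≠ 1 → Ce y = (P : Subgroup G))
    (hB6 : ∀ P : Sylow p G,
      Nat.card {e : G // orderOf e = 2 ∧ e ∈ Nz (P : Subgroup G)} = Nat.card (P : Subgroup G))
    (P₀ : Sylow p G) :
    Nat.card {x : G × G // orderOf x.1 = 2 ∧ orderOf x.2 = 2 ∧ x.1 * x.2 ≠ x.2 * x.1} =
      Nat.card (Sylow p G) * (Nat.card (P₀ : Subgroup G) * (Nat.card (P₀ : Subgroup G) - 1)) := by
  classical
  haveI : Fact p.Prime := ⟨h.sb.pp⟩
  haveI := Fintype.ofFinite (Sylow p G)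
  -- distinct involutions of `N(P)` do not commute
  have hnc : ∀ (P : Sylow p G) (e e' : G), orderOf e = 2 → orderOf e' = 2 →
      e ∈ Nz (P : Subgroup G) → e' ∈ Nz (P : Subgroup G) → e ≠ e' → e * e' ≠ e' * e := by
    intro P e e' he he' heN he'N hne hc
    obtain ⟨h1, h2⟩ := B8_key h hB3 hB5 P e e' he he' heN he'N hne
    apply h2
    apply B8_sq h
    · obtain ⟨k, hk⟩ := (P.2 ⟨e' * e, h1⟩)
      have hk' : (e' * e) ^ p ^ k = 1 := by simpa using congrArg Subtype.val hk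
      obtain ⟨j, _, hj⟩ := (Nat.dvd_prime_pow h.sb.pp).1 (orderOf_dvd_of_pow_eq_one hk')
      exact ⟨j, hj⟩
    · calc e' * e * (e' * e) = e' * (e * e') * e := by group
        _ = e' * (e' * e) * e := by rw [hc]
        _ = (e' * e') * (e * e) := by group
        _ = 1 := by rw [(B8_inv he).1, (B8_inv he').1, one_mul]
  let F : (Σ P : Sylow p G, {x : {e : G // orderOf e = 2 ∧ e ∈ Nz (P : Subgroup G)} ×
      {e : G // orderOf e = 2 ∧ e ∈ Nz (P : Subgroup G)} // x.1 ≠ x.2}) →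
      {x : G × G // orderOf x.1 = 2 ∧ orderOf x.2 = 2 ∧ x.1 * x.2 ≠ x.2 * x.1} :=
    fun s => ⟨(s.2.1.1.1, s.2.1.2.1), s.2.1.1.2.1, s.2.1.2.2.1,
      hnc s.1 _ _ s.2.1.1.2.1 s.2.1.2.2.1 s.2.1.1.2.2 s.2.1.2.2.2
        (fun hh => s.2.2 (Subtype.ext hh))⟩
  have hF : Function.Bijective F := by
    constructor
    · rintro ⟨P, ⟨⟨⟨e, he, heN⟩, ⟨e', he', he'N⟩⟩, hne⟩⟩ ⟨P', ⟨⟨⟨f, hf, hfN⟩, ⟨f', hf', hf'N⟩⟩, hne'⟩⟩ hh
      simp only [F, Subtype.mk.injEq, Prod.mk.injEq] at hh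
      obtain ⟨rfl, rfl⟩ := hh
      have hne1 : e ≠ e' := fun hh => hne (Subtype.ext hh)
      obtain ⟨h1, h2⟩ := B8_key h hB3 hB5 P e e' he he' heN he'N hne1
      obtain ⟨h1', _⟩ := B8_key h hB3 hB5 P' e e' he he' hfN hf'N hne1
      have hPP : P = P' := Sylow.ext ((hB5 P _ h1 h2).symm.trans (hB5 P' _ h1' h2))
      subst hPP
      rfl
    · rintro ⟨⟨e, e'⟩, he, he', hc⟩
      simp only at he he' hc
      have hw : PE p (e' * e) := hB1 e e' he he' hc
      have hw1 : e' * e ≠ 1 := by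
        intro h1
        apply hc
        have h2 : e' = e := by
          rw [← (B8_inv he).2]; exact eq_inv_of_mul_eq_one_left h1
        rw [h2]
      obtain ⟨k, hk⟩ := hw
      have hpg : IsPGroup p (Subgroup.zpowers (e' * e)) :=
        IsPGroup.of_card (n := k) (by rw [Nat.card_zpowers, hk])
      obtain ⟨P, hP⟩ := hpg.exists_le_sylow
      have hwP : e' * e ∈ (P : Subgroup G) := hP (Subgroup.mem_zpowers _)
      have hCe := hB5 P _ hwP hw1
      have heN : e ∈ Nz (P : Subgroup G) := by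
        rw [← hCe]
        apply B8_norm
        rw [mul_inv_rev, (B8_inv he).2, (B8_inv he').2]
        calc e * (e' * e) * e = e * e' * (e * e) := by group
          _ = e * e' := by rw [(B8_inv he).1, mul_one]
      have he'N : e' ∈ Nz (P : Subgroup G) := by
        rw [← hCe]
        apply B8_norm
        rw [mul_inv_rev, (B8_inv he).2, (B8_inv he').2]
        calc e' * (e' * e) * e' = (e' * e') * e * e' := by group
          _ = e * e' := by rw [(B8_inv he').1, one_mul]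
      refine ⟨⟨P, ⟨⟨⟨e, he, heN⟩, ⟨e', he', he'N⟩⟩, ?_⟩⟩, rfl⟩
      intro hh
      apply hc
      have : e = e' := congrArg Subtype.val hh
      rw [this]
  rw [← Nat.card_congr (Equiv.ofBijective F hF), Nat.card_sigma]
  have hterm : ∀ P : Sylow p G, Nat.card {x : {e : G // orderOf e = 2 ∧ e ∈ Nz (P : Subgroup G)} ×
      {e : G // orderOf e = 2 ∧ e ∈ Nz (P : Subgroup G)} // x.1 ≠ x.2} =
      Nat.card (P₀ : Subgroup G) * (Nat.card (P₀ : Subgroup G) - 1) := by
    intro P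
    rw [B8_offdiag, hB6 P]
    have : Nat.card (P : Subgroup G) = Nat.card (P₀ : Subgroup G) := by
      rw [Sylow.card_eq_multiplicity P, Sylow.card_eq_multiplicity P₀]
    rw [this]
  rw [Finset.sum_congr rfl (fun P _ => hterm P), Finset.sum_const, Finset.card_univ,
    ← Nat.card_eq_fintype_card, smul_eq_mul]

end Cfsg.Agent.Lib.Helper59.TP
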