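import Cfsg.Agent.Lib.Helper59.TP.Base

set_option autoImplicit false

namespace Cfsg.Agent.Lib.Helper59.TP

open Cfsg.Agent.Lib.Helper59.CY

variable {G : Type*} [Group G] [Finite G] {p a : ℕ}

theorem B9_fiber (h : GF p a G) (hY : ∀ t : G, orderOf t = 2 → Yt p t = ⊥) (e : G)
    (he : orderOf e = 2) :
    Nat.card {e' : G // orderOf e' = 2 ∧ e * e' ≠ e' * e} = Nat.card {e : G // orderOf e = 2} - p := by
  haveI : Fact (Nat.Prime 2) := ⟨Nat.prime_two⟩
  have hCe : Nat.card (Ce e) = 2 ^ a := by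
    rw [h.yc e he, hY e he, Subgroup.card_bot, one_mul]
  obtain ⟨Q, hQ⟩ := (IsPGroup.of_card hCe).exists_le_sylow
  have hsq : ∀ u ∈ Ce e, u * u = 1 := fun u hu => h.el Q u (hQ hu)
  have hA : {e' : G | orderOf e' = 2 ∧ e * e' = e' * e} = ((Ce e : Subgroup G) : Set G) \ {1} := by
    ext u
    constructor
    · rintro ⟨h1, h2⟩
      refine ⟨Subgroup.mem_centralizer_singleton_iff.2 h2.symm, ?_⟩
      intro h3
      rw [Set.mem_singleton_iff] at h3
      rw [h3, orderOf_one] at h1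
      omega
    · rintro ⟨h1, h2⟩
      refine ⟨orderOf_eq_prime (by rw [pow_two]; exact hsq u h1) h2, ?_⟩
      exact (Subgroup.mem_centralizer_singleton_iff.1 h1).symm
  have hAc : {e' : G | orderOf e' = 2 ∧ e * e' = e' * e}.ncard = p := by
    rw [hA, Set.ncard_sdiff_singleton_of_mem (Subgroup.one_mem _), h.sb.hpa, ← hCe]
    congr 1
  have hB : {e' : G | orderOf e' = 2 ∧ e * e' ≠ e' * e} =
      {e' : G | orderOf e' = 2} \ {e' : G | orderOf e' = 2 ∧ e * e' = e' * e} := by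
    ext u
    constructor
    · rintro ⟨h1, h2⟩
      exact ⟨h1, fun h3 => h2 h3.2⟩
    · rintro ⟨h1, h2⟩
      exact ⟨h1, fun h3 => h2 ⟨h1, h3⟩⟩
  calc Nat.card {e' : G // orderOf e' = 2 ∧ e * e' ≠ e' * e}
      = {e' : G | orderOf e' = 2 ∧ e * e' ≠ e' * e}.ncard := Nat.card_coe_set_eq _
    _ = {e' : G | orderOf e' = 2}.ncard - {e' : G | orderOf e' = 2 ∧ e * e' = e' * e}.ncard := by
        rw [hB, Set.ncard_sdiff (fun u hu => hu.1)]
    _ = Nat.card {e : G // orderOf e = 2} - p := by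
        rw [hAc]
        congr 1

/-- B9 : the same pairs counted by the first involution -/
theorem b_count2 (h : GF p a G) (hY : ∀ t : G, orderOf t = 2 → Yt p t = ⊥) :
    Nat.card {x : G × G // orderOf x.1 = 2 ∧ orderOf x.2 = 2 ∧ x.1 * x.2 ≠ x.2 * x.1} =
      Nat.card {e : G // orderOf e = 2} * (Nat.card {e : G // orderOf e = 2} - p) := by
  classical
  haveI := Fintype.ofFinite {e : G // orderOf e = 2}
  let φ : {x : G × G // orderOf x.1 = 2 ∧ orderOf x.2 = 2 ∧ x.1 * x.2 ≠ x.2 * x.1} ≃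
      Σ e : {e : G // orderOf e = 2}, {e' : G // orderOf e' = 2 ∧ e.1 * e' ≠ e' * e.1} :=
    { toFun := fun x => ⟨⟨x.1.1, x.2.1⟩, ⟨x.1.2, x.2.2⟩⟩
      invFun := fun y => ⟨(y.1.1, y.2.1), y.1.2, y.2.2⟩
      left_inv := fun x => rfl
      right_inv := fun y => rfl }
  rw [Nat.card_congr φ, Nat.card_sigma, Finset.sum_congr rfl (fun e _ => B9_fiber h hY e.1 e.2),
    Finset.sum_const, Finset.card_univ, smul_eq_mul, Nat.card_eq_fintype_card]

end Cfsg.Agent.Lib.Helper59.TP
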