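import Cfsg.Agent.Lib.Helper59.CY.Base

/-!
# S4017 : definitions for the farm TP
-/

set_option autoImplicit false

namespace Cfsg.Agent.Lib.Helper59.TP

open Cfsg.Agent.Lib.Helper59.CY

variable {G : Type*} [Group G]

/-- `H` is a `{2,p}`-group -/
def TwoP (p : ℕ) (H : Subgroup G) : Prop := ∃ i j : ℕ, Nat.card H = 2 ^ i * p ^ j

/-- the hypotheses of S4017 (for the primes `p`, `q`) -/
structure Hyp (p q : ℕ) (G : Type*) [Group G] : Prop where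
  hp : p.Prime
  hq : q.Prime
  hpq : p ≠ q
  hp2 : p ≠ 2
  hpG : p ∣ Nat.card G
  hqG : q ∣ Nat.card G
  hmix : ∀ H : Subgroup G, H ≠ ⊤ → ¬ IsPGroup q H → q ∣ Nat.card H → p ∣ Nat.card H
  hlarge : q ^ (Nat.card G).factorization q - 1 < p ∨
      (p = q ^ (Nat.card G).factorization q - 1 ∧ ∀ P : Sylow p G, IsMulCommutative P)

/-- the conclusion of S4017 -/
def Concl (p q : ℕ) (G : Type*) [Group G] : Prop :=
  ∀ r : ℕ, r.Prime → r ∣ Nat.card G → r = p ∨ r = q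

/-- Situation B: `G` simple, `p = 2^a - 1`, `|G|_2 = 2^a`, Sylow `p` abelian, every proper subgroup of even order
is a `{2,p}`-group. -/
structure SB (p a : ℕ) (G : Type*) [Group G] : Prop where
  pp : p.Prime
  ha : 2 ≤ a
  hpa : p = 2 ^ a - 1
  card2 : ∀ Q : Sylow 2 G, Nat.card (Q : Subgroup G) = 2 ^ a
  pdvd : p ∣ Nat.card G
  E : ∀ H : Subgroup G, H ≠ ⊤ → 2 ∣ Nat.card H → TwoP p H
  simp : ∀ M : Subgroup G, M.Normal → M = ⊥ ∨ M = ⊤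
  pab : ∀ P : Sylow p G, ∀ x ∈ (P : Subgroup G), ∀ y ∈ (P : Subgroup G), x * y = y * x

/-- `Y_t` : the subgroup generated by the `p`-elements of `C(t)` -/
def Yt (p : ℕ) (t : G) : Subgroup G := Subgroup.closure {g : G | g * t = t * g ∧ PE p g}

/-- the global facts known after stage 0 -/
structure GF (p a : ℕ) (G : Type*) [Group G] : Prop where
  sb : SB p a G
  zc : ∀ u : G, u ≠ 1 → Ce u ≠ ⊤
  nn : ∀ H : Subgroup G, H ≠ ⊥ → H ≠ ⊤ → Nz H ≠ ⊤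
  small : ∀ U : Subgroup G, Nat.card U ≤ p → ∀ g ∈ Nz U, PE p g → ∀ u ∈ U, g * u = u * g
  el : ∀ Q : Sylow 2 G, ∀ u ∈ (Q : Subgroup G), u * u = 1
  tr : ∀ Q : Sylow 2 G, ∃ x ∈ Nz (Q : Subgroup G), PE p x ∧
    ∀ u ∈ (Q : Subgroup G), u ≠ 1 → ∀ v ∈ (Q : Subgroup G), v ≠ 1 → ∃ i : ℕ, x ^ i * u * (x ^ i)⁻¹ = v
  cj : ∀ s t : G, orderOf s = 2 → orderOf t = 2 → ∃ g : G, g * s * g⁻¹ = t
  fix : ∀ Q : Sylow 2 G, ∀ g ∈ Nz (Q : Subgroup G),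
    (∃ t ∈ (Q : Subgroup G), t ≠ 1 ∧ g * t = t * g) → ∀ u ∈ (Q : Subgroup G), g * u = u * g
  yp : ∀ t : G, orderOf t = 2 → IsPGroup p (Yt p t)
  yc : ∀ t : G, orderOf t = 2 → Nat.card (Ce t) = Nat.card (Yt p t) * 2 ^ a
  tool : ∀ (L : Subgroup G) (P : Sylow p G), L ≠ ⊤ → 2 ∣ Nat.card L → (P : Subgroup G) ≤ L →
    ∃ U : Subgroup G, IsPGroup 2 U ∧ U ≤ L ∧ L ≤ Nz U ∧ L ≤ Nz ((P : Subgroup G) ⊔ U)
  prod : ∀ s t : G, orderOf s = 2 → orderOf t = 2 →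
    PE p (t * s) ∨ ∃ e : G, orderOf e = 2 ∧ e * t = t * e ∧ e * s = s * e

end Cfsg.Agent.Lib.Helper59.TP
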