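import Cfsg.Agent.Lib.Helper59.TP.Base
import Cfsg.Agent.Lib.Helper59.CY.G1

set_option autoImplicit false

namespace Cfsg.Agent.Lib.Helper59.TP

open Cfsg.Agent.Lib.Helper59.CY

variable {G : Type*} [Group G] [Finite G] {p a : ℕ}

/-- C1 -/
theorem kl (h : GF p a G) (hcq : ∀ Q : Sylow 2 G, ∀ z ∈ Cz (Q : Subgroup G), PE p z → z = 1)
    (P P' : Sylow p G) (c : G) (hc1 : c ≠ 1) (hc : c ∈ (P : Subgroup G)) (hc' : c ∈ (P' : Subgroup G))
    (h2 : 2 ∣ Nat.card (Ce c)) : P = P' := by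
  have pp := h.sb.pp
  haveI : Fact p.Prime := ⟨pp⟩
  haveI : Fact (Nat.Prime 2) := ⟨Nat.prime_two⟩
  have hPL : (P : Subgroup G) ≤ Ce c := by
    intro y hy
    rw [Subgroup.mem_centralizer_singleton_iff]
    exact h.sb.pab P y hy c hc
  have hP'L : (P' : Subgroup G) ≤ Ce c := by
    intro y hy
    rw [Subgroup.mem_centralizer_singleton_iff]
    exact h.sb.pab P' y hy c hc'
  obtain ⟨U, hU2, hUL, hLU, hN⟩ := h.tool (Ce c) P (h.zc c hc1) h2 hPL
  by_cases hU : U = ⊥
  · rw [hU, sup_bot_eq] at hN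
    have hle : (P' : Subgroup G) ≤ (P : Subgroup G) := fun y hy =>
      pin P (hN (hP'L hy)) (PE_of_mem_pgroup P'.2 hy)
    exact Sylow.ext (P'.3 P.2 hle)
  · obtain ⟨u, hu, hu1⟩ : ∃ u ∈ U, u ≠ 1 := by
      by_contra hcon
      push Not at hcon
      exact hU ((Subgroup.eq_bot_iff_forall U).2 hcon)
    obtain ⟨Q, hUQ⟩ := hU2.exists_le_sylow
    by_cases hcard : Nat.card U ≤ p
    · have hu2 : orderOf u = 2 :=
        orderOf_eq_prime (by rw [pow_two]; exact h.el Q u (hUQ hu)) hu1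
      have key : ∀ P'' : Sylow p G, (P'' : Subgroup G) ≤ Ce c → (P'' : Subgroup G) = Yt p u := by
        intro P'' hle
        have h3 : (P'' : Subgroup G) ≤ Yt p u := fun y hy =>
          Subgroup.subset_closure ⟨h.small U hcard y (hLU (hle hy)) (PE_of_mem_pgroup P''.2 hy) u hu,
            PE_of_mem_pgroup P''.2 hy⟩
        exact (P''.3 (h.yp u hu2) h3).symm
      exact Sylow.ext ((key P hPL).trans (key P' hP'L).symm)
    · exfalso
      have hQc := h.sb.card2 Q
      have hpa := h.sb.hpa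
      have hUQ' : U = (Q : Subgroup G) := by
        apply Subgroup.eq_of_le_of_card_ge hUQ
        rw [hQc]
        omega
      apply hc1
      apply hcq Q c _ (PE_of_mem_pgroup P.2 hc)
      rw [Subgroup.mem_centralizer_iff]
      intro v hv
      have hv' : v ∈ U := by rw [hUQ']; exact hv
      exact Subgroup.mem_centralizer_singleton_iff.1 (hUL hv')

end Cfsg.Agent.Lib.Helper59.TP
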