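import Cfsg.Agent.Lib.Helper59.TP.Base

set_option autoImplicit false

namespace Cfsg.Agent.Lib.Helper59.TP

open Cfsg.Agent.Lib.Helper59.CY

variable {G : Type*} [Group G] [Finite G] {p a : ℕ}

/-- T5 : equivariance of `Y_t` -/
theorem yt_conj (g t y : G) (hy : y ∈ Yt p t) : g * y * g⁻¹ ∈ Yt p (g * t * g⁻¹) := by
  have hle : Yt p t ≤ (Yt p (g * t * g⁻¹)).comap (MulAut.conj g).toMonoidHom := by
    unfold Yt
    rw [Subgroup.closure_le]
    rintro k ⟨hk1, hk2⟩
    apply Subgroup.subset_closure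
    refine ⟨?_, ?_⟩
    · change g * k * g⁻¹ * (g * t * g⁻¹) = g * t * g⁻¹ * (g * k * g⁻¹)
      calc g * k * g⁻¹ * (g * t * g⁻¹) = g * (k * t) * g⁻¹ := by group
        _ = g * (t * k) * g⁻¹ := by rw [hk1]
        _ = _ := by group
    · obtain ⟨j, hj⟩ := hk2
      refine ⟨j, ?_⟩
      rw [← hj]
      exact (MulAut.conj g).orderOf_eq k
  exact hle hy

end Cfsg.Agent.Lib.Helper59.TP
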