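import Cfsg.Agent.Lib.Helper59.TP.Base
import Cfsg.Agent.Lib.Helper59.TP.T5

set_option autoImplicit false

namespace Cfsg.Agent.Lib.Helper59.TP

open Cfsg.Agent.Lib.Helper59.CY

variable {G : Type*} [Group G] [Finite G] {p a : ℕ}

theorem T6_le (g s t : G) (hg : g * s * g⁻¹ = t) : Nat.card (Yt p s) ≤ Nat.card (Yt p t) := by
  have hle : (Yt p s).map (MulAut.conj g).toMonoidHom ≤ Yt p t := by
    rintro _ ⟨y, hy, rfl⟩
    have := yt_conj g s y hy
    rw [hg] at this
    exact this
  have h1 := Subgroup.card_le_of_le hle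
  rwa [Subgroup.card_map_of_injective (MulAut.conj g).injective] at h1

/-- T6 : `|Y_t|` does not depend on the involution `t` -/
theorem yt_card (h : GF p a G) (s t : G) (hs : orderOf s = 2) (ht : orderOf t = 2) :
    Nat.card (Yt p s) = Nat.card (Yt p t) := by
  obtain ⟨g, hg⟩ := h.cj s t hs ht
  apply le_antisymm (T6_le g s t hg)
  apply T6_le g⁻¹ t s
  rw [← hg]
  group

end Cfsg.Agent.Lib.Helper59.TP
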