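import Cfsg.Agent.Lib.Helper59.TP.Base
import Cfsg.Agent.Lib.Helper59.CY.G1
import Cfsg.Agent.Lib.Helper59.TP.T5
import Cfsg.Agent.Lib.Helper59.TP.T6

set_option autoImplicit false
set_option linter.unusedSectionVars false

namespace Cfsg.Agent.Lib.Helper59.TP

open Cfsg.Agent.Lib.Helper59.CY

variable {G : Type*} [Group G] [Finite G] {p a : ℕ}

theorem C2_p_ne_two (h : SB p a G) : p ≠ 2 := by
  intro h2
  have h1 := h.hpa
  have h3 : 2 ^ 2 ≤ 2 ^ a := Nat.pow_le_pow_right (by norm_num) h.ha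
  omega

theorem C2_mem_nz_yt (g t : G) (hg : g * t = t * g) : g ∈ Nz (Yt p t) := by
  rw [Subgroup.mem_normalizer_iff]
  have h1 : g * t * g⁻¹ = t := by rw [hg]; group
  have h2 : g⁻¹ * t * g⁻¹⁻¹ = t := by
    rw [inv_inv]
    calc g⁻¹ * t * g = g⁻¹ * (t * g) := by group
      _ = t := by rw [← hg]; group
  intro y
  constructor
  · intro hy
    have := yt_conj (p := p) g t y hy
    rwa [h1] at this
  · intro hy
    have := yt_conj (p := p) g⁻¹ t _ hy
    rw [h2] at this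
    have h3 : g⁻¹ * (g * y * g⁻¹) * g⁻¹⁻¹ = y := by group
    rwa [h3] at this

/-- C2 -/
theorem q_le_n (h : GF p a G) (hcq : ∀ Q : Sylow 2 G, ∀ z ∈ Cz (Q : Subgroup G), PE p z → z = 1)
    (hY : ∀ t : G, orderOf t = 2 → Yt p t ≠ ⊥) (Q : Sylow 2 G) (t : G) (ht : t ∈ (Q : Subgroup G))
    (ht1 : t ≠ 1) (P : Sylow p G) (hP : Yt p t ≤ (P : Subgroup G)) :
    (Q : Subgroup G) ≤ Nz (P : Subgroup G) := by
  have : Fact p.Prime := ⟨h.sb.pp⟩
  have hp2 : p ≠ 2 := C2_p_ne_two h.sb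
  have htt : t * t = 1 := h.el Q t ht
  have hto : orderOf t = 2 := orderOf_eq_prime (by rw [pow_two]; exact htt) ht1
  have hYp : IsPGroup p (Yt p t) := h.yp t hto
  have hYbot : Yt p t ≠ ⊥ := hY t hto
  have hYtop : Yt p t ≠ ⊤ := by
    intro htop
    have h1 : t ∈ Yt p t := by rw [htop]; exact Subgroup.mem_top t
    obtain ⟨k, hk⟩ := PE_of_mem_pgroup hYp h1
    rw [hto] at hk
    have hk0 : k ≠ 0 := by rintro rfl; simp at hk
    have h10 : p ∣ 2 := hk ▸ dvd_pow_self p hk0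
    exact hp2 ((Nat.prime_dvd_prime_iff_eq h.sb.pp Nat.prime_two).1 h10)
  have hLtop : Nz (Yt p t) ≠ ⊤ := h.nn _ hYbot hYtop
  have hQL : (Q : Subgroup G) ≤ Nz (Yt p t) := by
    intro u hu
    apply C2_mem_nz_yt
    have huu : u * u = 1 := h.el Q u hu
    have h1 : (u * t) * (u * t) = 1 := h.el Q _ ((Q : Subgroup G).mul_mem hu ht)
    have hti : t⁻¹ = t := inv_eq_of_mul_eq_one_left htt
    have hui : u⁻¹ = u := inv_eq_of_mul_eq_one_left huu
    calc u * t = (u * t) * (u * t) * (t⁻¹ * u⁻¹) := by group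
      _ = t * u := by rw [h1, hti, hui, one_mul]
  have hPL : (P : Subgroup G) ≤ Nz (Yt p t) := by
    intro x hx
    rw [Subgroup.mem_normalizer_iff]
    intro y
    constructor
    · intro hy
      have h1 : x * y = y * x := h.sb.pab P x hx y (hP hy)
      have h2 : x * y * x⁻¹ = y := by rw [h1]; group
      rwa [h2]
    · intro hy
      have h1 : x⁻¹ * (x * y * x⁻¹) = (x * y * x⁻¹) * x⁻¹ :=
        h.sb.pab P _ ((P : Subgroup G).inv_mem hx) _ (hP hy)
      have h2 : y = x * y * x⁻¹ := by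
        calc y = x⁻¹ * (x * y * x⁻¹) * x := by group
          _ = x * y * x⁻¹ := by rw [h1]; group
      rw [h2]; exact hy
  have h2L : 2 ∣ Nat.card (Nz (Yt p t)) := by
    have h1 : Nat.card (Q : Subgroup G) ∣ Nat.card (Nz (Yt p t)) := Subgroup.card_dvd_of_le hQL
    rw [h.sb.card2 Q] at h1
    exact (dvd_pow_self 2 (by have := h.sb.ha; omega)).trans h1
  obtain ⟨U, hU2, hUL, hLU, hLPU⟩ := h.tool _ P hLtop h2L hPL
  by_cases hUbot : U = ⊥
  · rw [hUbot, sup_bot_eq] at hLPU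
    exact hQL.trans hLPU
  obtain ⟨Q₁, hQ₁⟩ := hU2.exists_le_sylow
  by_cases hcard : Nat.card U = 2 ^ a
  · exfalso
    have hUQ : U = (Q₁ : Subgroup G) :=
      Subgroup.eq_of_le_of_card_ge hQ₁ (by rw [hcard, h.sb.card2 Q₁])
    have hinf : Yt p t ⊓ U = ⊥ := by
      apply inf_bot_of_pgroup_coprime hYp
      rw [hcard]
      exact Nat.Coprime.pow_left a ((Nat.coprime_primes Nat.prime_two h.sb.pp).2 (Ne.symm hp2))
    apply hYbot
    rw [eq_bot_iff]
    intro y hy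
    rw [Subgroup.mem_bot]
    apply hcq Q₁ y _ (PE_of_mem_pgroup hYp hy)
    rw [Subgroup.mem_centralizer_iff]
    intro u hu
    have hu' : u ∈ U := by rw [hUQ]; exact hu
    have h1 : u * y * u⁻¹ ∈ Yt p t := (Subgroup.mem_normalizer_iff.1 (hUL hu') y).1 hy
    have h2 : y * u⁻¹ * y⁻¹ ∈ U :=
      (Subgroup.mem_normalizer_iff.1 (hLU (hPL (hP hy))) u⁻¹).1 (U.inv_mem hu')
    have h3 : u * y * u⁻¹ * y⁻¹ ∈ Yt p t ⊓ U := by
      refine ⟨(Yt p t).mul_mem h1 ((Yt p t).inv_mem hy), ?_⟩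
      have : u * y * u⁻¹ * y⁻¹ = u * (y * u⁻¹ * y⁻¹) := by group
      rw [this]
      exact U.mul_mem hu' h2
    rw [hinf, Subgroup.mem_bot] at h3
    calc u * y = (u * y * u⁻¹ * y⁻¹) * (y * u) := by group
      _ = y * u := by rw [h3, one_mul]
  · have hle : Nat.card U ≤ p := by
      have h1 : Nat.card U ≤ Nat.card (Q₁ : Subgroup G) := Subgroup.card_le_of_le hQ₁
      rw [h.sb.card2 Q₁] at h1
      have := h.sb.hpa
      omega
    obtain ⟨u, hu, hu1⟩ : ∃ u ∈ U, u ≠ 1 := by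
      by_contra hcon
      push Not at hcon
      exact hUbot ((Subgroup.eq_bot_iff_forall U).2 hcon)
    have huo : orderOf u = 2 :=
      orderOf_eq_prime (by rw [pow_two]; exact h.el Q₁ u (hQ₁ hu)) hu1
    have hPu : (P : Subgroup G) ≤ Yt p u := by
      intro g hg
      apply Subgroup.subset_closure
      exact ⟨h.small U hle g (hLU (hPL hg)) (PE_of_mem_pgroup P.2 hg) u hu, PE_of_mem_pgroup P.2 hg⟩
    have hYP : Yt p t = (P : Subgroup G) := by
      apply Subgroup.eq_of_le_of_card_ge hP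
      rw [← yt_card h u t huo hto]
      exact Subgroup.card_le_of_le hPu
    rw [← hYP]
    exact hQL

end Cfsg.Agent.Lib.Helper59.TP
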