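import Cfsg.Agent.Lib.Helper59.TP.Base
import Cfsg.Agent.Lib.Helper59.TP.T4
import Cfsg.Agent.Lib.Helper59.TP.T5

set_option autoImplicit false
set_option linter.unusedSectionVars false

namespace Cfsg.Agent.Lib.Helper59.TP

open Cfsg.Agent.Lib.Helper59.CY
open scoped Pointwise

variable {G : Type*} [Group G] [Finite G] {p a : ℕ}

/-- C3 -/
theorem c_inj (h : GF p a G) (hY : ∀ t : G, orderOf t = 2 → Yt p t ≠ ⊥)
    (hkl : ∀ (P P' : Sylow p G) (c : G), c ≠ 1 → c ∈ (P : Subgroup G) → c ∈ (P' : Subgroup G) →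
      2 ∣ Nat.card (Ce c) → P = P')
    (Q : Sylow 2 G) (P : Sylow p G) (hQP : (Q : Subgroup G) ≤ Nz (P : Subgroup G))
    (t v : G) (ht : t ∈ (Q : Subgroup G)) (ht1 : t ≠ 1) (hv : v ∈ (Q : Subgroup G)) (hv1 : v ≠ 1)
    (hPt : Yt p t ≤ (P : Subgroup G)) (hPv : Yt p v ≤ (P : Subgroup G)) : v = t := by
  classical
  have hpp := h.sb.pp
  have : Fact p.Prime := ⟨hpp⟩
  obtain ⟨x, hxN, hxp, htr⟩ := h.tr Q
  obtain ⟨i, hi⟩ := htr t ht ht1 v hv hv1
  set g := x ^ i with hg
  have hgN : g ∈ Nz (Q : Subgroup G) := (Nz (Q : Subgroup G)).pow_mem hxN i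
  have hot : orderOf t = 2 := by
    apply orderOf_eq_prime
    · rw [pow_two]; exact h.el Q t ht
    · exact ht1
  have hov : orderOf v = 2 := by
    apply orderOf_eq_prime
    · rw [pow_two]; exact h.el Q v hv
    · exact hv1
  obtain ⟨c0, hc0, hc01⟩ : ∃ c : G, c ∈ Yt p t ∧ c ≠ 1 := by
    obtain ⟨c, hc⟩ := Subgroup.ne_bot_iff_exists_ne_one.1 (hY t hot)
    exact ⟨c.1, c.2, fun e => hc (Subtype.ext e)⟩
  set c := g * c0 * g⁻¹ with hc
  have hcY : c ∈ Yt p v := by
    have := yt_conj (p := p) g t c0 hc0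
    rwa [hi] at this
  have hc1 : c ≠ 1 := by
    intro e
    apply hc01
    calc c0 = g⁻¹ * (g * c0 * g⁻¹) * g := by group
      _ = 1 := by rw [← hc, e]; group
  -- the conjugate Sylow subgroup
  let P' : Sylow p G := (MulAut.conj g) • P
  have hcP' : c ∈ (P' : Subgroup G) := by
    change c ∈ (MulAut.conj g) • (P : Subgroup G)
    rw [Subgroup.mem_pointwise_smul_iff_inv_smul_mem]
    have : (MulAut.conj g)⁻¹ • c = c0 := by
      rw [MulAut.smul_def, ← map_inv, MulAut.conj_apply, hc]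
      group
    rw [this]
    exact hPt hc0
  -- v centralizes c
  have hvc : ∀ y ∈ Yt p v, y * v = v * y := by
    intro y hy
    have hle : Yt p v ≤ Ce v := by
      unfold Yt
      rw [Subgroup.closure_le]
      intro z hz
      rw [SetLike.mem_coe, Subgroup.mem_centralizer_singleton_iff]
      exact hz.1
    have := hle hy
    rw [Subgroup.mem_centralizer_singleton_iff] at this
    exact this
  have h2 : 2 ∣ Nat.card (Ce c) := by
    have hvC : v ∈ Ce c := by
      rw [Subgroup.mem_centralizer_singleton_iff]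
      exact (hvc c hcY).symm
    have := orderOf_dvd_natCard (⟨v, hvC⟩ : Ce c)
    rwa [Subgroup.orderOf_mk, hov] at this
  have hPP' : P = P' := hkl P P' c hc1 (hPv hcY) hcP' h2
  have hgNP : g ∈ Nz (P : Subgroup G) := by
    have h3 : (MulAut.conj g) • P = P := hPP'.symm
    exact Sylow.smul_eq_iff_mem_normalizer.1 h3
  -- a p-element of N(P) lies in P
  have hgp : PE p g := by
    obtain ⟨k, hk⟩ := hxp
    have hd : orderOf g ∣ p ^ k := by
      rw [← hk, hg]; exact orderOf_pow_dvd i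
    obtain ⟨k', _, hk'⟩ := (Nat.dvd_prime_pow hpp).1 hd
    exact ⟨k', hk'⟩
  have hgP : g ∈ (P : Subgroup G) := by
    obtain ⟨k, hk⟩ := hgp
    have hz : IsPGroup p (Subgroup.zpowers g) := by
      rw [IsPGroup.iff_card, Nat.card_zpowers]
      exact ⟨k, hk⟩
    have hzN : Subgroup.zpowers g ≤ Nz (P : Subgroup G) := by
      rw [Subgroup.zpowers_le]; exact hgNP
    have h5 := hz.inf_normalizer_sylow P
    have h6 : g ∈ Subgroup.zpowers g ⊓ (P : Subgroup G) := by
      rw [← h5]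
      exact ⟨Subgroup.mem_zpowers g, hgNP⟩
    exact h6.2
  have hcen := not_norm h Q P g hgN hgP hQP t ht
  rw [← hi, hcen]
  group

end Cfsg.Agent.Lib.Helper59.TP
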