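import Cfsg.Agent.Lib.Helper59.TP.Base
import Cfsg.Agent.Lib.Helper59.TP.T1

set_option autoImplicit false
set_option linter.unusedSectionVars false

/-! # TP farm, piece C4 -/

namespace Cfsg.Agent.Lib.Helper59.TP

open Cfsg.Agent.Lib.Helper59.CY

variable {G : Type*} [Group G] [Finite G] {p a : ℕ}

/-- C4 -/
theorem c_inverts (h : GF p a G)
    (hkl : ∀ (P P' : Sylow p G) (c : G), c ≠ 1 → c ∈ (P : Subgroup G) → c ∈ (P' : Subgroup G) →
      2 ∣ Nat.card (Ce c) → P = P')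
    (Q : Sylow 2 G) (P : Sylow p G) (hQP : (Q : Subgroup G) ≤ Nz (P : Subgroup G))
    (t : G) (hinj : ∀ v ∈ (Q : Subgroup G), v ≠ 1 → Yt p v ≤ (P : Subgroup G) → v = t)
    (v : G) (hv : v ∈ (Q : Subgroup G)) (hv1 : v ≠ 1) (hvt : v ≠ t) :
    ∀ y ∈ (P : Subgroup G), v * y * v⁻¹ = y⁻¹ := by
  have pp : p.Prime := h.sb.pp
  have hvv : v * v = 1 := h.el Q v hv
  have hov : orderOf v = 2 := orderOf_eq_prime (by rw [pow_two]; exact hvv) hv1
  refine inv_of_fpf (P : Subgroup G) (h.sb.pab P) v hvv (hQP hv) ?_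
  intro c hc hvc
  by_contra hc1
  have hPE : PE p c := by
    obtain ⟨k, hk⟩ := P.isPGroup' ⟨c, hc⟩
    have h1 : c ^ p ^ k = 1 := by
      have := congrArg Subtype.val hk
      simpa using this
    obtain ⟨m, _, hm⟩ := (Nat.dvd_prime_pow pp).mp (orderOf_dvd_of_pow_eq_one h1)
    exact ⟨m, hm⟩
  have hcY : c ∈ Yt p v := Subgroup.subset_closure ⟨hvc.symm, hPE⟩
  obtain ⟨P'', hP''⟩ := (h.yp v hov).exists_le_sylow
  have h2 : 2 ∣ Nat.card (Ce c) := by
    have hmem : v ∈ Ce c := by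
      rw [Subgroup.mem_centralizer_iff]
      intro x hx
      rw [Set.mem_singleton_iff.mp hx]
      exact hvc.symm
    have := orderOf_dvd_natCard (⟨v, hmem⟩ : Ce c)
    rwa [Subgroup.orderOf_mk, hov] at this
  have heq : P = P'' := hkl P P'' c hc1 hc (hP'' hcY) h2
  exact hvt (hinj v hv hv1 (by rw [heq]; exact hP''))

end Cfsg.Agent.Lib.Helper59.TP
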