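import Cfsg.Agent.Lib.Helper59.TP.Base

set_option autoImplicit false

namespace Cfsg.Agent.Lib.Helper59.TP

open Cfsg.Agent.Lib.Helper59.CY

variable {G : Type*} [Group G] [Finite G] {p a : ℕ}

/-- C5 -/
theorem c_a3 (h : GF p a G) (ha : 3 ≤ a) (Q : Sylow 2 G) (P : Sylow p G) (t : G)
    (hinv : ∀ v ∈ (Q : Subgroup G), v ≠ 1 → v ≠ t → ∀ y ∈ (P : Subgroup G), v * y * v⁻¹ = y⁻¹) :
    False := by
  classical
  have hpp := h.sb.pp
  have : Fact p.Prime := ⟨hpp⟩
  have hcard : Nat.card (Q : Subgroup G) = 2 ^ a := h.sb.card2 Q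
  have h8 : 8 ≤ Nat.card (Q : Subgroup G) := by
    rw [hcard]
    calc 8 = 2 ^ 3 := rfl
      _ ≤ 2 ^ a := Nat.pow_le_pow_right (by norm_num) ha
  -- choose elements outside small finite sets
  have pick : ∀ S : Finset G, S.card < 8 → ∃ v ∈ (Q : Subgroup G), v ∉ S := by
    intro S hS
    by_contra hcon
    push Not at hcon
    have hsub : ((Q : Subgroup G) : Set G) ⊆ (S : Set G) := fun v hv => hcon v hv
    have h1 : ((Q : Subgroup G) : Set G).ncard ≤ (S : Set G).ncard :=
      Set.ncard_le_ncard hsub (Finset.finite_toSet S)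
    rw [Set.ncard_coe_finset] at h1
    have h2 : ((Q : Subgroup G) : Set G).ncard = Nat.card (Q : Subgroup G) :=
      (Nat.card_coe_set_eq _).symm
    omega
  obtain ⟨v, hvQ, hv⟩ := pick {1, t} (lt_of_le_of_lt (Finset.card_le_two) (by norm_num))
  obtain ⟨w, hwQ, hw⟩ := pick {1, t, v, v * t, v⁻¹, v⁻¹ * t}
    (lt_of_le_of_lt (Finset.card_le_six) (by norm_num))
  simp only [Finset.mem_insert, Finset.mem_singleton, not_or] at hv hw
  have hvw1 : v * w ≠ 1 := by
    intro h1
    apply hw.2.2.2.2.1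
    exact (eq_inv_of_mul_eq_one_right h1)
  have hvwt : v * w ≠ t := by
    intro h1
    apply hw.2.2.2.2.2
    rw [← h1]; group
  have i1 := hinv v hvQ hv.1 hv.2
  have i2 := hinv w hwQ hw.1 hw.2.1
  have i3 := hinv (v * w) ((Q : Subgroup G).mul_mem hvQ hwQ) hvw1 hvwt
  -- every element of P is its own inverse
  have hsq : ∀ y ∈ (P : Subgroup G), y = y⁻¹ := by
    intro y hy
    have a1 := i3 y hy
    have a2 := i2 y hy
    have a3 := i1 y⁻¹ ((P : Subgroup G).inv_mem hy)
    have : v * w * y * (v * w)⁻¹ = v * (w * y * w⁻¹) * v⁻¹ := by group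
    rw [this, a2, a3, inv_inv] at a1
    exact a1
  -- so P is trivial, as p is odd
  have hp2 : p ≠ 2 := by
    have := h.sb.hpa
    have h4 : 2 ^ a = 2 * 2 ^ (a - 1) := by
      rw [← pow_succ']; congr 1; omega
    have h5 : 0 < 2 ^ (a - 1) := by positivity
    omega
  obtain ⟨y, hy⟩ := exists_prime_orderOf_dvd_card' (G := (P : Subgroup G)) p (by
    have := P.card_eq_multiplicity
    rw [this]
    apply dvd_pow_self
    have hd := h.sb.pdvd
    have hfac : 0 < (Nat.card G).factorization p :=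
      hpp.factorization_pos_of_dvd Nat.card_pos.ne' hd
    omega)
  have hy2 := hsq y.1 y.2
  have hyy : y.1 * y.1 = 1 := by
    calc y.1 * y.1 = y.1 * (y.1)⁻¹ := by rw [← hy2]
      _ = 1 := mul_inv_cancel _
  have hord : orderOf y.1 = p := by rw [Subgroup.orderOf_coe]; exact hy
  have hdvd : orderOf y.1 ∣ 2 := orderOf_dvd_of_pow_eq_one (by rw [pow_two]; exact hyy)
  rw [hord] at hdvd
  exact hp2 ((Nat.prime_dvd_prime_iff_eq hpp Nat.prime_two).1 hdvd)

end Cfsg.Agent.Lib.Helper59.TP
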