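import Cfsg.Agent.Lib.Helper59.TP.Base
import Cfsg.Agent.Lib.Helper59.CY.G1

set_option autoImplicit false

namespace Cfsg.Agent.Lib.Helper59.TP

open Cfsg.Agent.Lib.Helper59.CY

variable {G : Type*} [Group G] [Finite G] {p a : ℕ}

/-- D1 : `t` centralizes `P`, `C(t) = N(P) = P Q` -/
theorem d_str (h : GF p 2 G) (Q : Sylow 2 G) (P : Sylow p G) (t : G) (ht : t ∈ (Q : Subgroup G)) (ht1 : t ≠ 1)
    (hQP : (Q : Subgroup G) ≤ Nz (P : Subgroup G))
    (hinv : ∀ v ∈ (Q : Subgroup G), v ≠ 1 → v ≠ t → ∀ y ∈ (P : Subgroup G), v * y * v⁻¹ = y⁻¹) :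
    (∀ y ∈ (P : Subgroup G), t * y = y * t) ∧ Ce t = (P : Subgroup G) ⊔ (Q : Subgroup G) ∧
      Nz (P : Subgroup G) = (P : Subgroup G) ⊔ (Q : Subgroup G) := by
  have pp := h.sb.pp
  haveI : Fact p.Prime := ⟨pp⟩
  haveI : Fact (Nat.Prime 2) := ⟨Nat.prime_two⟩
  have hp3 : p = 3 := by
    have := h.sb.hpa
    norm_num at this
    exact this
  have hQc : Nat.card (Q : Subgroup G) = 4 := by rw [h.sb.card2 Q]; norm_num
  have htt : t * t = 1 := h.el Q t ht
  have hQab : ∀ x ∈ (Q : Subgroup G), ∀ y ∈ (Q : Subgroup G), x * y = y * x := by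
    intro x hx y hy
    have hx' : x⁻¹ = x := inv_eq_of_mul_eq_one_left (h.el Q x hx)
    have hy' : y⁻¹ = y := inv_eq_of_mul_eq_one_left (h.el Q y hy)
    have h3 : (x * y)⁻¹ = x * y :=
      inv_eq_of_mul_eq_one_left (h.el Q (x * y) ((Q : Subgroup G).mul_mem hx hy))
    calc x * y = (x * y)⁻¹ := h3.symm
      _ = y⁻¹ * x⁻¹ := mul_inv_rev _ _
      _ = y * x := by rw [hx', hy']
  obtain ⟨u, hu, hu1, hut⟩ : ∃ u ∈ (Q : Subgroup G), u ≠ 1 ∧ u ≠ t := by
    by_contra hcon
    push Not at hcon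
    have hsub : ((Q : Subgroup G) : Set G) ⊆ {1, t} := by
      intro x hx
      by_cases hx1 : x = 1
      · left; exact hx1
      · right; exact hcon x hx hx1
    have h1 : Nat.card (Q : Subgroup G) ≤ 2 := by
      calc Nat.card (Q : Subgroup G) = ((Q : Subgroup G) : Set G).ncard := Nat.card_coe_set_eq _
        _ ≤ ({1, t} : Set G).ncard := Set.ncard_le_ncard hsub (Set.toFinite _)
        _ = 2 := Set.ncard_pair (Ne.symm ht1)
    omega
  have hc : ∀ y ∈ (P : Subgroup G), t * y = y * t := by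
    intro y hy
    have h1 := hinv u hu hu1 hut y hy
    have htu : t * u ∈ (Q : Subgroup G) := (Q : Subgroup G).mul_mem ht hu
    have htu1 : t * u ≠ 1 := by
      intro h'
      apply hut
      calc u = (t * t) * u := by rw [htt, one_mul]
        _ = t * (t * u) := mul_assoc _ _ _
        _ = t := by rw [h', mul_one]
    have htut : t * u ≠ t := by
      intro h'
      apply hu1
      exact mul_left_cancel (h'.trans (mul_one t).symm)
    have h2 := hinv (t * u) htu htu1 htut y hy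
    have h3 : t * y⁻¹ * t⁻¹ = y⁻¹ := by
      calc t * y⁻¹ * t⁻¹ = t * (u * y * u⁻¹) * t⁻¹ := by rw [h1]
        _ = t * u * y * (t * u)⁻¹ := by group
        _ = y⁻¹ := h2
    have h4 : t * y⁻¹ = y⁻¹ * t := by
      calc t * y⁻¹ = t * y⁻¹ * t⁻¹ * t := by group
        _ = y⁻¹ * t := by rw [h3]
    calc t * y = y * (y⁻¹ * t) * y := by group
      _ = y * (t * y⁻¹) * y := by rw [h4]
      _ = y * t := by group
  have ht2 : orderOf t = 2 := orderOf_eq_prime (by rw [pow_two]; exact htt) ht1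
  have hYP : Yt p t = (P : Subgroup G) := P.3 (h.yp t ht2) (fun y hy =>
    Subgroup.subset_closure ⟨(hc y hy).symm, PE_of_mem_pgroup P.2 hy⟩)
  have hCe : Nat.card (Ce t) = Nat.card (P : Subgroup G) * 4 := by
    rw [h.yc t ht2, hYP]; norm_num
  obtain ⟨k, hk⟩ := IsPGroup.iff_card.mp P.2
  have hcop : (Nat.card (P : Subgroup G)).Coprime (Nat.card (Q : Subgroup G)) := by
    rw [hk, hQc, hp3]
    exact Nat.Coprime.pow_left k (by norm_num)
  have hdvd : Nat.card (P : Subgroup G) * Nat.card (Q : Subgroup G) ∣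
      Nat.card ((P : Subgroup G) ⊔ (Q : Subgroup G) : Subgroup G) :=
    hcop.mul_dvd_of_dvd_of_dvd (Subgroup.card_dvd_of_le le_sup_left)
      (Subgroup.card_dvd_of_le le_sup_right)
  have hge : Nat.card (P : Subgroup G) * 4 ≤
      Nat.card ((P : Subgroup G) ⊔ (Q : Subgroup G) : Subgroup G) := by
    rw [← hQc]; exact Nat.le_of_dvd Nat.card_pos hdvd
  have hle1 : (P : Subgroup G) ⊔ (Q : Subgroup G) ≤ Ce t :=
    sup_le (fun y hy => Subgroup.mem_centralizer_singleton_iff.2 (hc y hy).symm)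
      (fun y hy => Subgroup.mem_centralizer_singleton_iff.2 (hQab y hy t ht))
  refine ⟨hc, (Subgroup.eq_of_le_of_card_ge hle1 (by rw [hCe]; exact hge)).symm, ?_⟩
  have hle2 : (P : Subgroup G) ⊔ (Q : Subgroup G) ≤ Nz (P : Subgroup G) :=
    sup_le Subgroup.le_normalizer hQP
  symm
  apply Subgroup.eq_of_le_of_card_ge hle2
  have hpP : p ∣ Nat.card (P : Subgroup G) := P.dvd_card_of_dvd_card h.sb.pdvd
  have hPb : (P : Subgroup G) ≠ ⊥ := by
    intro h'
    rw [h', Subgroup.card_bot] at hpP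
    exact pp.one_lt.ne' (Nat.dvd_one.1 hpP)
  have hPt : (P : Subgroup G) ≠ ⊤ := by
    intro h'
    have h1 : Nat.card (Q : Subgroup G) ∣ Nat.card (P : Subgroup G) := by
      rw [h', Subgroup.card_top]; exact Subgroup.card_subgroup_dvd_card _
    have h2 := Nat.Coprime.eq_one_of_dvd hcop.symm h1
    omega
  have hNt := h.nn P hPb hPt
  have h2N : 2 ∣ Nat.card (Nz (P : Subgroup G)) :=
    (by rw [hQc]; norm_num : 2 ∣ Nat.card (Q : Subgroup G)).trans (Subgroup.card_dvd_of_le hQP)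
  obtain ⟨i, j, hij⟩ := h.sb.E _ hNt h2N
  have hG := Subgroup.card_subgroup_dvd_card (Nz (P : Subgroup G))
  have h2i : 2 ^ i ≤ 4 := by
    have h1 : 2 ^ i ∣ Nat.card G := (Dvd.intro _ hij.symm).trans hG
    have h2 := (Nat.Prime.pow_dvd_iff_le_factorization Nat.prime_two Nat.card_pos.ne').1 h1
    have h3 := Q.card_eq_multiplicity
    rw [← hQc, h3]
    exact Nat.pow_le_pow_right (by norm_num) h2
  have hpj : p ^ j ≤ Nat.card (P : Subgroup G) := by
    have h1 : p ^ j ∣ Nat.card G := (Dvd.intro_left _ hij.symm).trans hG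
    have h2 := (Nat.Prime.pow_dvd_iff_le_factorization pp Nat.card_pos.ne').1 h1
    have h3 := P.card_eq_multiplicity
    rw [h3]
    exact Nat.pow_le_pow_right pp.pos h2
  calc Nat.card (Nz (P : Subgroup G)) = 2 ^ i * p ^ j := hij
    _ ≤ 4 * Nat.card (P : Subgroup G) := Nat.mul_le_mul h2i hpj
    _ = Nat.card (P : Subgroup G) * 4 := mul_comm _ _
    _ ≤ _ := hge

end Cfsg.Agent.Lib.Helper59.TP
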