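import Cfsg.Agent.Lib.Helper59.TP.Base
import Cfsg.Agent.Lib.Helper59.CY.G1

set_option autoImplicit false
set_option linter.unusedSectionVars false

namespace Cfsg.Agent.Lib.Helper59.TP

open Cfsg.Agent.Lib.Helper59.CY

variable {G : Type*} [Group G] [Finite G] {p a : ℕ}

theorem D3_p_ne_two (h : SB p a G) : p ≠ 2 := by
  intro h2
  have h1 := h.hpa
  have h3 : 2 ^ 2 ≤ 2 ^ a := Nat.pow_le_pow_right (by norm_num) h.ha
  omega

/-- elements of `P ⊔ ⟨t⟩` when the involution `t` centralizes `P` -/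
theorem D3_mem_sup (P : Subgroup G) (t : G) (htt : t * t = 1) (hc : ∀ y ∈ P, t * y = y * t) (x : G)
    (hx : x ∈ P ⊔ Subgroup.zpowers t) : ∃ y ∈ P, ∃ c : G, (c = 1 ∨ c = t) ∧ x = y * c := by
  have hti : t⁻¹ = t := inv_eq_of_mul_eq_one_left htt
  let K' : Subgroup G :=
    { carrier := {x | ∃ y ∈ P, ∃ c : G, (c = 1 ∨ c = t) ∧ x = y * c}
      one_mem' := ⟨1, P.one_mem, 1, Or.inl rfl, by simp⟩
      mul_mem' := by
        rintro _ _ ⟨y, hy, c, hcc, rfl⟩ ⟨y', hy', c', hcc', rfl⟩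
        rcases hcc with rfl | rfl <;> rcases hcc' with rfl | rfl
        · exact ⟨y * y', P.mul_mem hy hy', 1, Or.inl rfl, by simp⟩
        · exact ⟨y * y', P.mul_mem hy hy', c', Or.inr rfl, by group⟩
        · refine ⟨y * y', P.mul_mem hy hy', c, Or.inr rfl, ?_⟩
          rw [mul_one, mul_assoc, hc y' hy', mul_assoc]
        · refine ⟨y * y', P.mul_mem hy hy', 1, Or.inl rfl, ?_⟩
          rw [mul_one, mul_assoc, ← mul_assoc _ y', hc y' hy', mul_assoc, htt, mul_one]
      inv_mem' := by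
        rintro _ ⟨y, hy, c, hcc, rfl⟩
        rcases hcc with rfl | rfl
        · exact ⟨y⁻¹, P.inv_mem hy, 1, Or.inl rfl, by simp⟩
        · refine ⟨y⁻¹, P.inv_mem hy, c, Or.inr rfl, ?_⟩
          rw [mul_inv_rev, hti, hc _ (P.inv_mem hy)] }
  have hle : P ⊔ Subgroup.zpowers t ≤ K' := by
    rw [sup_le_iff, Subgroup.zpowers_le]
    exact ⟨fun y hy => ⟨y, hy, 1, Or.inl rfl, by simp⟩, ⟨1, P.one_mem, t, Or.inr rfl, by simp⟩⟩
  exact hle hx

theorem D3_mem_zpowers {t s : G} (htt : t * t = 1) (hs : s ∈ Subgroup.zpowers t) : s = 1 ∨ s = t := by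
  obtain ⟨y, hy, c, hc, rfl⟩ := D3_mem_sup ⊥ t htt (by
    intro y hy; rw [Subgroup.mem_bot] at hy; subst hy; simp) s (by rw [bot_sup_eq]; exact hs)
  rw [Subgroup.mem_bot] at hy
  subst hy
  simpa using hc

/-- D3 : the other hypotheses of S3282 -/
theorem d_hyp (h : GF p 2 G) (Q : Sylow 2 G) (P : Sylow p G) (t s : G) (ht : t ∈ (Q : Subgroup G)) (ht1 : t ≠ 1)
    (hs : s ∈ (Q : Subgroup G)) (hs1 : s ≠ 1) (hst : s ≠ t)
    (hc : ∀ y ∈ (P : Subgroup G), t * y = y * t) (hC : Ce t = (P : Subgroup G) ⊔ (Q : Subgroup G))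
    (hinv : ∀ y ∈ (P : Subgroup G), s * y * s⁻¹ = y⁻¹) :
    IsMulCommutative ↥((P : Subgroup G) ⊔ Subgroup.zpowers t) ∧
    (P : Subgroup G) ⊔ Subgroup.zpowers t ≤ Ce t ∧ s ∉ (P : Subgroup G) ⊔ Subgroup.zpowers t ∧
    ((P : Subgroup G) ⊔ Subgroup.zpowers t) ⊔ Subgroup.zpowers s = Ce t ∧
    ((P : Subgroup G) ⊔ Subgroup.zpowers t) ⊓ Ce s = Subgroup.zpowers t ∧
    ∀ x ∈ (P : Subgroup G) ⊔ Subgroup.zpowers t, s * x * s⁻¹ = x⁻¹ := by
  haveI : Fact p.Prime := ⟨h.sb.pp⟩
  have hp2 : p ≠ 2 := D3_p_ne_two h.sb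
  have htt : t * t = 1 := h.el Q t ht
  have hss : s * s = 1 := h.el Q s hs
  have hti : t⁻¹ = t := inv_eq_of_mul_eq_one_left htt
  have hsi : s⁻¹ = s := inv_eq_of_mul_eq_one_left hss
  have hts : s * t = t * s := by
    have h1 : (s * t) * (s * t) = 1 := h.el Q _ ((Q : Subgroup G).mul_mem hs ht)
    calc s * t = (s * t) * (s * t) * (t⁻¹ * s⁻¹) := by group
      _ = t * s := by rw [h1, hti, hsi, one_mul]
  have hmem := D3_mem_sup (P : Subgroup G) t htt hc
  have hPQ : (P : Subgroup G) ⊓ (Q : Subgroup G) = ⊥ := by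
    apply inf_bot_of_pgroup_coprime P.2
    rw [h.sb.card2 Q]
    exact Nat.Coprime.pow_left 2 ((Nat.coprime_primes Nat.prime_two h.sb.pp).2 (Ne.symm hp2))
  have hcQ : ∀ c : G, (c = 1 ∨ c = t) → c ∈ (Q : Subgroup G) := by
    rintro c (rfl | rfl)
    · exact (Q : Subgroup G).one_mem
    · exact ht
  have hcz : ∀ c : G, (c = 1 ∨ c = t) → c ∈ Subgroup.zpowers t := by
    rintro c (rfl | rfl)
    · exact (Subgroup.zpowers _).one_mem
    · exact Subgroup.mem_zpowers _
  have hcP : ∀ c : G, (c = 1 ∨ c = t) → ∀ y ∈ (P : Subgroup G), Commute c y := by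
    rintro c (rfl | rfl) y hy
    · exact Commute.one_left y
    · exact hc y hy
  have hcc : ∀ c c' : G, (c = 1 ∨ c = t) → (c' = 1 ∨ c' = t) → Commute c c' := by
    rintro c c' (rfl | rfl) (rfl | rfl)
    · exact Commute.one_left _
    · exact Commute.one_left _
    · exact Commute.one_right _
    · exact Commute.refl _
  have hKC : (P : Subgroup G) ⊔ Subgroup.zpowers t ≤ Ce t := by
    rw [sup_le_iff, Subgroup.zpowers_le]
    refine ⟨fun y hy => ?_, ?_⟩
    · exact Subgroup.mem_centralizer_singleton_iff.2 (hc y hy).symm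
    · exact Subgroup.mem_centralizer_singleton_iff.2 rfl
  have hinvK : ∀ x ∈ (P : Subgroup G) ⊔ Subgroup.zpowers t, s * x * s⁻¹ = x⁻¹ := by
    intro x hx
    obtain ⟨y, hy, c, hcase, rfl⟩ := hmem x hx
    have h1 : s * c * s⁻¹ = c⁻¹ := by
      rcases hcase with rfl | rfl
      · simp
      · rw [hts, hti]; group
    calc s * (y * c) * s⁻¹ = (s * y * s⁻¹) * (s * c * s⁻¹) := by group
      _ = y⁻¹ * c⁻¹ := by rw [hinv y hy, h1]
      _ = (c * y)⁻¹ := by rw [mul_inv_rev]
      _ = (y * c)⁻¹ := by rw [(hcP c hcase y hy).eq]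
  have hy1 : ∀ y ∈ (P : Subgroup G), y * y = 1 → y = 1 := by
    intro y hy hyy
    obtain ⟨k, hk⟩ := PE_of_mem_pgroup P.2 hy
    have hd : p ^ k ∣ 2 := hk ▸ orderOf_dvd_of_pow_eq_one (by rw [pow_two]; exact hyy)
    have hk0 : k = 0 := by
      by_contra hk0
      have h10 : p ∣ 2 := (dvd_pow_self p hk0).trans hd
      exact hp2 ((Nat.prime_dvd_prime_iff_eq h.sb.pp Nat.prime_two).1 h10)
    rw [hk0, pow_zero, orderOf_eq_one_iff] at hk
    exact hk
  refine ⟨⟨⟨?_⟩⟩, hKC, ?_, ?_, ?_, hinvK⟩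
  · rintro ⟨x, hx⟩ ⟨x', hx'⟩
    obtain ⟨y, hy, c, hcase, rfl⟩ := hmem x hx
    obtain ⟨y', hy', c', hcase', rfl⟩ := hmem x' hx'
    apply Subtype.ext
    have h1 : Commute y y' := h.sb.pab P y hy y' hy'
    exact (Commute.mul_left (Commute.mul_right h1 (hcP c' hcase' y hy).symm)
      (Commute.mul_right (hcP c hcase y' hy') (hcc c c' hcase hcase'))).eq
  · intro hsK
    obtain ⟨y, hy, c, hcase, hsy⟩ := hmem s hsK
    have h1 : y = s * c⁻¹ := by rw [hsy]; group
    have h2 : y ∈ (P : Subgroup G) ⊓ (Q : Subgroup G) :=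
      ⟨hy, h1 ▸ (Q : Subgroup G).mul_mem hs ((Q : Subgroup G).inv_mem (hcQ c hcase))⟩
    rw [hPQ, Subgroup.mem_bot] at h2
    rw [h2, one_mul] at hsy
    rcases hcase with rfl | rfl
    · exact hs1 hsy
    · exact hst hsy
  · apply le_antisymm
    · rw [sup_le_iff, Subgroup.zpowers_le]
      exact ⟨hKC, Subgroup.mem_centralizer_singleton_iff.2 hts⟩
    · rw [hC, sup_le_iff]
      refine ⟨le_sup_left.trans le_sup_left, ?_⟩
      have hR : Subgroup.zpowers t ⊔ Subgroup.zpowers s = (Q : Subgroup G) := by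
        have hle : Subgroup.zpowers t ⊔ Subgroup.zpowers s ≤ (Q : Subgroup G) := by
          rw [sup_le_iff, Subgroup.zpowers_le, Subgroup.zpowers_le]; exact ⟨ht, hs⟩
        apply Subgroup.eq_of_le_of_card_ge hle
        rw [h.sb.card2 Q]
        have h1 : Nat.card (Subgroup.zpowers t) = 2 := by
          rw [Nat.card_zpowers]; exact orderOf_eq_prime (by rw [pow_two]; exact htt) ht1
        have h2 : Nat.card (Subgroup.zpowers t) ∣
            Nat.card ↥(Subgroup.zpowers t ⊔ Subgroup.zpowers s) :=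
          Subgroup.card_dvd_of_le le_sup_left
        rw [h1] at h2
        obtain ⟨k, hk⟩ := h2
        have hk0 : k ≠ 0 := by
          rintro rfl
          have := Nat.card_pos (α := ↥(Subgroup.zpowers t ⊔ Subgroup.zpowers s))
          omega
        have hk1 : k ≠ 1 := by
          rintro rfl
          have h3 : Subgroup.zpowers t = Subgroup.zpowers t ⊔ Subgroup.zpowers s :=
            Subgroup.eq_of_le_of_card_ge le_sup_left (by rw [h1, hk])
          have h4 : s ∈ Subgroup.zpowers t := by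
            rw [h3]; exact le_sup_right (a := Subgroup.zpowers t) (Subgroup.mem_zpowers s)
          rcases D3_mem_zpowers htt h4 with h5 | h5
          · exact hs1 h5
          · exact hst h5
        rw [hk]
        have : 2 ≤ k := by omega
        omega
      rw [← hR, sup_le_iff]
      exact ⟨le_sup_right.trans le_sup_left, le_sup_right⟩
  · apply le_antisymm
    · rintro x ⟨hxK, hxs⟩
      have h1 : x * s = s * x := Subgroup.mem_centralizer_singleton_iff.1 hxs
      have h2 : x⁻¹ = x := by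
        rw [← hinvK x hxK, ← h1]; group
      obtain ⟨y, hy, c, hcase, rfl⟩ := hmem x hxK
      have h3 : (y * c) * (y * c) = 1 := by
        nth_rewrite 1 [← h2]
        exact inv_mul_cancel _
      have hc2 : c * c = 1 := by
        rcases hcase with rfl | rfl
        · simp
        · exact htt
      have h4 : y * y = 1 := by
        have : (y * c) * (y * c) = (y * y) * (c * c) := by
          rw [mul_assoc, ← mul_assoc c, (hcP c hcase y hy).eq]; group
        rw [this, hc2, mul_one] at h3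
        exact h3
      rw [hy1 y hy h4, one_mul]
      exact hcz c hcase
    · rw [Subgroup.zpowers_le]
      exact ⟨le_sup_right (a := (P : Subgroup G)) (Subgroup.mem_zpowers t),
        Subgroup.mem_centralizer_singleton_iff.2 hts.symm⟩

end Cfsg.Agent.Lib.Helper59.TP
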