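import Cfsg.Agent.Lib.Helper59.TP.Base
import Cfsg.Agent.Lib.Helper59.CY.G1
import Cfsg.Agent.Lib.Helper59.TP.D3

set_option autoImplicit false
set_option linter.unusedSectionVars false

namespace Cfsg.Agent.Lib.Helper59.TP

open Cfsg.Agent.Lib.Helper59.CY
open scoped Pointwise

variable {G : Type*} [Group G] [Finite G] {p a : ℕ}

/-- D2 : the TI property needed by S3282 -/
theorem d_ti (h : GF p 2 G)
    (hkl : ∀ (P P' : Sylow p G) (c : G), c ≠ 1 → c ∈ (P : Subgroup G) → c ∈ (P' : Subgroup G) →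
      2 ∣ Nat.card (Ce c) → P = P')
    (P : Sylow p G) (t : G) (ht : orderOf t = 2) (hc : ∀ y ∈ (P : Subgroup G), t * y = y * t)
    (hN : Nz (P : Subgroup G) = Ce t) (g : G) (hg : g ∉ Ce t) :
    ((P : Subgroup G) ⊔ Subgroup.zpowers t) ⊓
      ((P : Subgroup G) ⊔ Subgroup.zpowers t).map (MulAut.conj g).toMonoidHom = ⊥ := by
  have : Fact p.Prime := ⟨h.sb.pp⟩
  have hp2 : p ≠ 2 := D3_p_ne_two h.sb
  have htt : t * t = 1 := by
    have := pow_orderOf_eq_one t
    rwa [ht, pow_two] at this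
  have ht1 : t ≠ 1 := by
    rintro rfl
    simp at ht
  have hmem := D3_mem_sup (P : Subgroup G) t htt hc
  obtain ⟨e, he⟩ := IsPGroup.iff_card.1 P.2
  have hodd : Odd (Nat.card (P : Subgroup G)) := by
    rw [he]
    exact Odd.pow (h.sb.pp.odd_of_ne_two hp2)
  obtain ⟨j, hj⟩ := hodd
  have hyn : ∀ y ∈ (P : Subgroup G), y ^ Nat.card (P : Subgroup G) = 1 := by
    intro y hy
    have h1 := pow_card_eq_one' (G := ↥(P : Subgroup G)) (x := ⟨y, hy⟩)
    have h2 := congrArg Subtype.val h1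
    rwa [Subgroup.coe_pow, Subgroup.coe_one] at h2
  have htn : t ^ Nat.card (P : Subgroup G) = t := by
    rw [hj, pow_succ, pow_mul, pow_two, htt, one_pow, one_mul]
  have hytn : ∀ y ∈ (P : Subgroup G), (y * t) ^ Nat.card (P : Subgroup G) = t := by
    intro y hy
    have hcom : Commute y t := (hc y hy).symm
    rw [hcom.mul_pow, hyn y hy, htn, one_mul]
  rw [eq_bot_iff]
  rintro k ⟨hk1, hk2⟩
  rw [Subgroup.mem_bot]
  by_contra hk
  obtain ⟨x', hx', hx'k⟩ := Subgroup.mem_map.1 hk2
  have hx'k' : g * x' * g⁻¹ = k := by simpa [MulAut.conj_apply] using hx'k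
  obtain ⟨y, hy, c, hcase, hkyc⟩ := hmem k hk1
  obtain ⟨y', hy', c', hcase', rfl⟩ := hmem x' hx'
  have hpow : g * (y' * c') ^ Nat.card (P : Subgroup G) * g⁻¹ = k ^ Nat.card (P : Subgroup G) := by
    rw [← hx'k', conj_pow]
  rcases hcase with rfl | rfl
  · rw [mul_one] at hkyc
    subst hkyc
    rcases hcase' with rfl | rfl
    · -- both in `P`
      rw [mul_one] at hx'k'
      have h1 : k ∈ ((g • P : Sylow p G) : Subgroup G) := by
        rw [Sylow.coe_subgroup_smul, ← hx'k']
        exact ⟨y', hy', by simp [MulAut.conj_apply]⟩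
      have h2 : 2 ∣ Nat.card (Ce k) := by
        have h3 : t ∈ Ce k := Subgroup.mem_centralizer_singleton_iff.2 (hc k hy)
        have h4 : orderOf (⟨t, h3⟩ : ↥(Ce k)) = 2 := by
          rw [Subgroup.orderOf_mk, ht]
        rw [← h4]
        exact orderOf_dvd_natCard _
      have h5 : P = g • P := hkl P (g • P) k hk hy h1 h2
      have h6 : g ∈ Nz (P : Subgroup G) := Sylow.smul_eq_iff_mem_normalizer.1 h5.symm
      rw [hN] at h6
      exact hg h6
    · rw [hytn y' hy', hyn k hy] at hpow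
      apply ht1
      have : c' = g⁻¹ * 1 * g := by rw [← hpow]; group
      simpa using this
  · subst hkyc
    rw [hytn y hy] at hpow
    rcases hcase' with rfl | rfl
    · rw [mul_one, hyn y' hy'] at hpow
      apply ht1
      rw [← hpow]; group
    · rw [hytn y' hy'] at hpow
      apply hg
      rw [Subgroup.mem_centralizer_singleton_iff]
      exact mul_inv_eq_iff_eq_mul.1 hpow

end Cfsg.Agent.Lib.Helper59.TP
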