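import Cfsg.Agent.Lib.Helper59.TP.Base

/-!
# Farm TP (helper59, S4017), piece D4
-/

set_option autoImplicit false
set_option linter.unusedSectionVars false
set_option linter.unusedVariables false
set_option linter.style.haveILetI false

namespace Cfsg.Agent.Lib.Helper59.TP

open Cfsg.Agent.Lib.Helper59.CY

variable {G : Type*} [Group G] [Finite G] {p a : ℕ}

/-- D4 : contradiction from the conclusion of S3282 -/
theorem d_final (h : GF p 2 G) (hpc : ∀ d : G, PE p d → ∃ t : G, orderOf t = 2 ∧ t * d = d * t)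
    (Q D : Subgroup G) (h1 : 2 * Nat.card G = Nat.card ↥Q * (Nat.card ↥Q + 1) * (Nat.card ↥Q - 1))
    (h2 : ∀ x ∈ Q, x ≠ 1 → Subgroup.centralizer ({x} : Set G) = Q)
    (h3 : IsMulCommutative ↥D) (h4 : 2 * Nat.card ↥D + 1 = Nat.card ↥Q) (h5 : Q ⊓ D = ⊥)
    (h6 : Subgroup.normalizer (Q : Set G) = Q ⊔ D)
    (h7 : ∀ X : Subgroup G, X ≤ D → X ≠ ⊥ →
        Subgroup.normalizer (X : Set G) = Subgroup.normalizer (D : Set G) ∧
        ∃ u : G, orderOf u = 2 ∧ u ∉ D ∧ (∀ d ∈ D, u * d * u⁻¹ = d⁻¹) ∧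
          Subgroup.normalizer (D : Set G) = D ⊔ Subgroup.zpowers u) : False := by
  have pp := h.sb.pp
  haveI : Fact p.Prime := ⟨pp⟩
  have hp3 : p = 3 := by have := h.sb.hpa; norm_num at this; exact this
  have hDpos : 0 < Nat.card D := Nat.card_pos
  have hQodd : ¬ 2 ∣ Nat.card Q := by omega
  have hQ3 : 3 ≤ Nat.card Q := by omega
  have hpQ : ¬ p ∣ Nat.card Q := by
    intro hd
    obtain ⟨y0, hy0⟩ := exists_prime_orderOf_dvd_card' p hd
    have hy0' : orderOf (y0 : G) = p := by rw [Subgroup.orderOf_coe]; exact hy0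
    have hne : (y0 : G) ≠ 1 := by
      intro hh; rw [hh, orderOf_one] at hy0'; exact pp.one_lt.ne hy0'
    obtain ⟨t, ht, htc⟩ := hpc y0 ⟨1, by rw [hy0', pow_one]⟩
    have htQ : t ∈ Q := by
      rw [← h2 y0 y0.2 hne, Subgroup.mem_centralizer_singleton_iff]; exact htc
    apply hQodd
    have := Subgroup.orderOf_dvd_natCard Q htQ
    rwa [ht] at this
  have hQb : Q ≠ ⊥ := by
    intro hh; rw [hh, Subgroup.card_bot] at hQ3; omega
  have h2G : 2 ∣ Nat.card G := by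
    have e1 := h.sb.card2 default
    have e2 := Subgroup.card_subgroup_dvd_card ((default : Sylow 2 G) : Subgroup G)
    rw [e1] at e2
    exact (by norm_num : 2 ∣ 2 ^ 2).trans e2
  have hQt : Q ≠ ⊤ := by
    intro hh; rw [hh, Subgroup.card_top] at hQodd; exact hQodd h2G
  have hNQ : Nz Q ≠ ⊤ := h.nn Q hQb hQt
  have hcop2 : Nat.Coprime (Nat.card Q) 2 :=
    ((Nat.Prime.coprime_iff_not_dvd Nat.prime_two).2 hQodd).symm
  have hcopp : Nat.Coprime (Nat.card Q) p := ((Nat.Prime.coprime_iff_not_dvd pp).2 hpQ).symm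
  have hDodd : ¬ 2 ∣ Nat.card D := by
    intro hd
    have hDle : D ≤ Nz Q := by rw [show Nz Q = Q ⊔ D from h6]; exact le_sup_right
    have hQle : Q ≤ Nz Q := by rw [show Nz Q = Q ⊔ D from h6]; exact le_sup_left
    obtain ⟨i, j, hij⟩ := h.sb.E _ hNQ (hd.trans (Subgroup.card_dvd_of_le hDle))
    have e1 : Nat.card Q ∣ 2 ^ i * p ^ j := hij ▸ Subgroup.card_dvd_of_le hQle
    have e2 : Nat.card Q ∣ p ^ j := (Nat.Coprime.pow_right i hcop2).dvd_of_dvd_mul_left e1
    have e3 : Nat.card Q = 1 := (Nat.Coprime.pow_right j hcopp).eq_one_of_dvd e2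
    omega
  have hD1 : Nat.card D ≠ 1 := by
    intro hh
    apply hpQ
    rw [← h4, hh, hp3]
  have hDb : D ≠ ⊥ := fun hh => hD1 (by rw [hh, Subgroup.card_bot])
  have hDt : D ≠ ⊤ := by
    intro hh; rw [hh, inf_top_eq] at h5; exact hQb h5
  obtain ⟨_, u, hu2, huD, huinv, hND⟩ := h7 D le_rfl hDb
  have hNDt : Nz D ≠ ⊤ := h.nn D hDb hDt
  have huN : u ∈ Nz D := by
    rw [show Nz D = D ⊔ Subgroup.zpowers u from hND]
    exact Subgroup.mem_sup_right (Subgroup.mem_zpowers u)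
  have h2N : 2 ∣ Nat.card (Nz D) := by
    have := Subgroup.orderOf_dvd_natCard _ huN
    rwa [hu2] at this
  obtain ⟨i, j, hij⟩ := h.sb.E _ hNDt h2N
  have hDcop2 : Nat.Coprime (Nat.card D) 2 :=
    ((Nat.Prime.coprime_iff_not_dvd Nat.prime_two).2 hDodd).symm
  have hDle : D ≤ Nz D := Subgroup.le_normalizer
  have e1 : Nat.card D ∣ 2 ^ i * p ^ j := hij ▸ Subgroup.card_dvd_of_le hDle
  have e2 : Nat.card D ∣ p ^ j := (Nat.Coprime.pow_right i hDcop2).dvd_of_dvd_mul_left e1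
  obtain ⟨⟨d, hd⟩, hd1⟩ := Subgroup.ne_bot_iff_exists_ne_one.1 hDb
  have hd1' : d ≠ 1 := fun hh => hd1 (Subtype.ext hh)
  have hdo : orderOf d ∣ Nat.card D := Subgroup.orderOf_dvd_natCard _ hd
  have hPE : PE p d := by
    obtain ⟨m, _, hm⟩ := (Nat.dvd_prime_pow pp).1 (hdo.trans e2)
    exact ⟨m, hm⟩
  obtain ⟨t', ht'2, ht'c⟩ := hpc d hPE
  have hzle : Subgroup.zpowers d ≤ D := by
    rw [Subgroup.zpowers_le]; exact hd
  have hzb : Subgroup.zpowers d ≠ ⊥ := by
    rw [Ne, Subgroup.zpowers_eq_bot]; exact hd1'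
  have hNz := (h7 _ hzle hzb).1
  have ht'N : t' ∈ D ⊔ Subgroup.zpowers u := by
    rw [← hND, ← hNz]
    apply Subgroup.centralizer_le_normalizer
    rw [Subgroup.mem_centralizer_iff]
    rintro _ ⟨k, rfl⟩
    have hc : Commute d t' := ht'c.symm
    exact (hc.zpow_left k)
  have hzu : Subgroup.zpowers u ≤ Subgroup.normalizer (D : Set G) := by
    rw [Subgroup.zpowers_le]; exact huN
  have hset := Subgroup.coe_mul_of_right_le_normalizer_left D (Subgroup.zpowers u) hzu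
  have ht'S : t' ∈ ((D ⊔ Subgroup.zpowers u : Subgroup G) : Set G) := ht'N
  rw [hset] at ht'S
  obtain ⟨d', hd', z, hz, rfl⟩ := Set.mem_mul.1 ht'S
  have huu : u ^ (2 : ℤ) = 1 := by
    have := pow_orderOf_eq_one u
    rw [hu2] at this
    exact_mod_cast this
  have hz' : z = 1 ∨ z = u := by
    obtain ⟨k, rfl⟩ := hz
    rcases Int.even_or_odd' k with ⟨m, rfl | rfl⟩
    · left; simp only; rw [zpow_mul, huu, one_zpow]
    · right; simp only; rw [zpow_add, zpow_mul, huu, one_zpow, one_mul, zpow_one]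
  rcases hz' with rfl | rfl
  · rw [mul_one] at ht'2
    apply hDodd
    have := Subgroup.orderOf_dvd_natCard _ hd'
    rwa [ht'2] at this
  · have hcomm : d' * d⁻¹ = d⁻¹ * d' :=
      congrArg Subtype.val (h3.is_comm.comm ⟨d', hd'⟩ ⟨d⁻¹, inv_mem hd⟩)
    have e3 : d' * z * d * (d' * z)⁻¹ = d⁻¹ := by
      calc d' * z * d * (d' * z)⁻¹ = d' * (z * d * z⁻¹) * d'⁻¹ := by group
        _ = d' * d⁻¹ * d'⁻¹ := by rw [huinv d hd]
        _ = d⁻¹ := by rw [hcomm]; group
    have e4 : d' * z * d * (d' * z)⁻¹ = d := by rw [ht'c]; group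
    have e5 : d * d = 1 := by
      have : d = d⁻¹ := e4.symm.trans e3
      calc d * d = d * d⁻¹ := by rw [← this]
        _ = 1 := mul_inv_cancel d
    have e6 : orderOf d ∣ 2 := orderOf_dvd_of_pow_eq_one (by rw [pow_two]; exact e5)
    have e7 : orderOf d = 1 := by
      have hc : Nat.Coprime (orderOf d) 2 := Nat.Coprime.coprime_dvd_left hdo hDcop2
      exact hc.eq_one_of_dvd e6
    exact hd1' (orderOf_eq_one_iff.1 e7)

end Cfsg.Agent.Lib.Helper59.TP
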