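import Cfsg.Agent.Lib.Helper59.TP.Z3
import Cfsg.Agent.Lib.Helper22.SupLemmas

set_option autoImplicit false

namespace Cfsg.Agent.Lib.Helper59.TP

open Cfsg.Agent.Lib.Helper59.CY

variable {G : Type*} [Group G] [Finite G] {p a : ℕ}

/-- W1 -/
theorem w_cent {q : ℕ} (h : Hyp p q G) (hl : q ^ (Nat.card G).factorization q - 1 < p)
    (U : Subgroup G) (hU : IsPGroup q U) (g : G) (hg : g ∈ Nz U) (hgq : (orderOf g).Coprime q) :
    g ∈ Cz U := by
  have hqF : Fact q.Prime := ⟨h.hq⟩
  have hpp := h.hp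
  have hqq := h.hq
  by_cases hUb : U = ⊥
  · rw [Subgroup.mem_centralizer_iff]
    intro x hx
    have hx' : x ∈ U := hx
    rw [hUb, Subgroup.mem_bot] at hx'
    simp [hx']
  obtain ⟨n, hn⟩ := IsPGroup.iff_card.mp hU
  have hn0 : n ≠ 0 := by
    intro h0
    rw [h0, pow_zero] at hn
    exact hUb ((Subgroup.card_eq_one).mp hn)
  have hqU : q ∣ Nat.card U := by rw [hn]; exact dvd_pow_self q hn0
  have hpU : ¬ p ∣ Nat.card U := by
    rw [hn]
    intro hd
    exact h.hpq ((Nat.prime_dvd_prime_iff_eq hpp hqq).mp (hpp.dvd_of_dvd_pow hd))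
  -- every prime divisor of the order of `g` is `p`
  have hprime : ∀ {s : ℕ}, s.Prime → s ∣ orderOf g → s = p := by
    intro s hs hsd
    by_contra hsp
    have hsq : s ≠ q := by
      intro hsq
      rw [hsq] at hsd
      have := Nat.dvd_gcd hsd (dvd_refl q)
      rw [hgq] at this
      exact hqq.one_lt.ne' (Nat.dvd_one.mp this)
    set g' := g ^ (orderOf g / s) with hg'
    have hog' : orderOf g' = s := orderOf_pow_orderOf_div (orderOf_pos g).ne' hsd
    have hZN : Subgroup.zpowers g' ≤ Subgroup.normalizer (U : Set G) := by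
      rw [Subgroup.zpowers_le]
      exact pow_mem hg _
    have hpZ : ¬ p ∣ Nat.card (Subgroup.zpowers g') := by
      rw [Nat.card_zpowers, hog']
      intro hd
      exact hsp ((Nat.prime_dvd_prime_iff_eq hpp hs).mp hd).symm
    have hpH := Cfsg.Agent.Lib.Helper22.not_dvd_card_sup hpp hZN hpU hpZ
    have hqH : q ∣ Nat.card (U ⊔ Subgroup.zpowers g' : Subgroup G) :=
      hqU.trans (Subgroup.card_dvd_of_le le_sup_left)
    have hnq : ¬ IsPGroup q (U ⊔ Subgroup.zpowers g' : Subgroup G) := by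
      intro hP
      have hm : g' ∈ (U ⊔ Subgroup.zpowers g' : Subgroup G) :=
        (le_sup_right : Subgroup.zpowers g' ≤ _) (Subgroup.mem_zpowers g')
      obtain ⟨k, hk⟩ := (IsPGroup.iff_orderOf.mp hP) ⟨g', hm⟩
      rw [Subgroup.orderOf_mk, hog'] at hk
      have h1 : s ∣ q ^ k := by rw [← hk]
      exact hsq ((Nat.prime_dvd_prime_iff_eq hs hqq).mp (hs.dvd_of_dvd_pow h1))
    by_cases hT : (U ⊔ Subgroup.zpowers g' : Subgroup G) = ⊤
    · rw [hT, Subgroup.card_top] at hpH
      exact hpH h.hpG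
    · exact hpH (h.hmix _ hT hnq hqH)
  have hPE : PE p g := ⟨_, Nat.eq_prime_pow_of_unique_prime_dvd (orderOf_pos g).ne' hprime⟩
  have hle : Nat.card U ≤ p := by
    have h1 : q ^ n ∣ Nat.card G := by rw [← hn]; exact Subgroup.card_subgroup_dvd_card U
    have h2 : n ≤ (Nat.card G).factorization q :=
      (hqq.pow_dvd_iff_le_factorization Nat.card_pos.ne').mp h1
    have h3 : q ^ n ≤ q ^ (Nat.card G).factorization q := Nat.pow_le_pow_right hqq.pos h2
    rw [hn]
    omega
  have hs := small hpp U hle g hg hPE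
  rw [Subgroup.mem_centralizer_iff]
  intro x hx
  exact (hs x hx).symm

end Cfsg.Agent.Lib.Helper59.TP
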