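import Cfsg.Agent.Lib.Helper59.TP.Base
import Cfsg.Agent.Lib.Helper22.SupLemmas

set_option autoImplicit false

namespace Cfsg.Agent.Lib.Helper59.TP

open Cfsg.Agent.Lib.Helper59.CY

variable {G : Type*} [Group G] [Finite G] {p a : ℕ}

omit [Finite G] in
theorem W5_prime_of_twoP {H : Subgroup G} (pp : p.Prime) (h : TwoP p H) {r : ℕ} (hr : r.Prime)
    (hd : r ∣ Nat.card H) : r = 2 ∨ r = p := by
  obtain ⟨i, j, hij⟩ := h
  rw [hij] at hd
  rcases (Nat.Prime.dvd_mul hr).1 hd with h | h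
  · left; exact (Nat.prime_dvd_prime_iff_eq hr Nat.prime_two).1 (hr.dvd_of_dvd_pow h)
  · right; exact (Nat.prime_dvd_prime_iff_eq hr pp).1 (hr.dvd_of_dvd_pow h)

/-- W5 : no proper normal subgroup of even order -/
theorem w_even (pp : p.Prime) (hp2 : p ≠ 2) (hpG : p ∣ Nat.card G)
    (E : ∀ H : Subgroup G, H ≠ ⊤ → 2 ∣ Nat.card H → TwoP p H)
    (r : ℕ) (hr : r.Prime) (hrG : r ∣ Nat.card G) (hrp : r ≠ p) (hr2 : r ≠ 2)
    (M : Subgroup G) (hM : M.Normal) (hMt : M ≠ ⊤) : ¬ 2 ∣ Nat.card M := by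
  intro h2M
  haveI : Fact (Nat.Prime 2) := ⟨Nat.prime_two⟩
  haveI : Fact r.Prime := ⟨hr⟩
  haveI := hM
  have hMT := E M hMt h2M
  obtain ⟨Q1⟩ : Nonempty (Sylow 2 M) := inferInstance
  set Q := (Q1 : Subgroup M).map M.subtype with hQ
  have hQcard : Nat.card Q = Nat.card (Q1 : Subgroup M) :=
    Subgroup.card_map_of_injective M.subtype_injective
  have h2Q : 2 ∣ Nat.card Q := by
    rw [hQcard]
    exact Q1.dvd_card_of_dvd_card h2M
  have hQ2 : IsPGroup 2 Q := Q1.2.map _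
  have hfr : Nz Q ⊔ M = ⊤ := Sylow.normalizer_sup_eq_top Q1
  by_cases hN : Nz Q = ⊤
  · obtain ⟨y, hy⟩ := exists_prime_orderOf_dvd_card' r hrG
    have hle : Subgroup.zpowers y ≤ Subgroup.normalizer (Q : Set G) := by
      have : Subgroup.normalizer (Q : Set G) = ⊤ := hN
      rw [this]; exact le_top
    have hd := Cfsg.Agent.Lib.Helper22.card_sup_dvd hle
    rw [Nat.card_zpowers, hy] at hd
    have h2H : 2 ∣ Nat.card (Q ⊔ Subgroup.zpowers y : Subgroup G) :=
      h2Q.trans (Subgroup.card_dvd_of_le le_sup_left)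
    have hrH : r ∣ Nat.card (Q ⊔ Subgroup.zpowers y : Subgroup G) := by
      have := Subgroup.card_dvd_of_le (le_sup_right : Subgroup.zpowers y ≤ Q ⊔ Subgroup.zpowers y)
      rwa [Nat.card_zpowers, hy] at this
    by_cases hH : (Q ⊔ Subgroup.zpowers y : Subgroup G) = ⊤
    · rw [hH, Subgroup.card_top] at hd
      obtain ⟨k, hk⟩ := IsPGroup.iff_card.mp hQ2
      rw [hk] at hd
      rcases (Nat.Prime.dvd_mul pp).1 (hpG.trans hd) with h | h
      · exact hp2 ((Nat.prime_dvd_prime_iff_eq pp Nat.prime_two).1 (pp.dvd_of_dvd_pow h))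
      · exact hrp ((Nat.prime_dvd_prime_iff_eq pp hr).1 h).symm
    · rcases W5_prime_of_twoP pp (E _ hH h2H) hr hrH with h | h
      · exact hr2 h
      · exact hrp h
  · have h2N : 2 ∣ Nat.card (Nz Q) := h2Q.trans (Subgroup.card_dvd_of_le Subgroup.le_normalizer)
    have hNT := E _ hN h2N
    have hle : Nz Q ≤ Subgroup.normalizer (M : Set G) := by
      rw [Subgroup.normalizer_eq_top]; exact le_top
    have hd := Cfsg.Agent.Lib.Helper22.card_sup_dvd hle
    rw [sup_comm, hfr, Subgroup.card_top] at hd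
    rcases (Nat.Prime.dvd_mul hr).1 (hrG.trans hd) with h | h
    · rcases W5_prime_of_twoP pp hMT hr h with h | h
      · exact hr2 h
      · exact hrp h
    · rcases W5_prime_of_twoP pp hNT hr h with h | h
      · exact hr2 h
      · exact hrp h

end Cfsg.Agent.Lib.Helper59.TP
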