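import Cfsg.Agent.Lib.Helper59.TP.Base
import Cfsg.Agent.Lib.Helper59.TP.W5
import Cfsg.Agent.Lib.Helper22.SupLemmas
import Cfsg.Agent.S0023

set_option autoImplicit false

namespace Cfsg.Agent.Lib.Helper59.TP

open Cfsg.Agent.Lib.Helper59.CY

variable {G : Type*} [Group G] [Finite G] {p a : ℕ}

/-- a `q`-group `Q` normalising `M` of order prime to `q`, with `r ∣ |M|`: a `Q`-invariant nontrivial
`r`-subgroup. -/
theorem W6_inv_sylow {q : ℕ} (hq : q.Prime) (Q M : Subgroup G) (hQ : IsPGroup q Q)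
    (hQM : Q ≤ Subgroup.normalizer (M : Set G)) (hM : ¬ q ∣ Nat.card M) (r : ℕ) (hr : r.Prime)
    (hrM : r ∣ Nat.card M) :
    ∃ R : Subgroup G, IsPGroup r R ∧ r ∣ Nat.card R ∧ Q ≤ Subgroup.normalizer (R : Set G) := by
  haveI : Fact q.Prime := ⟨hq⟩
  haveI : Fact r.Prime := ⟨hr⟩
  obtain ⟨k, hk⟩ := IsPGroup.iff_card.mp hQ
  have hcop : (Nat.card Q).Coprime (Nat.card M) := by
    rw [hk]
    exact Nat.Coprime.pow_left k ((Nat.Prime.coprime_iff_not_dvd hq).2 hM)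
  haveI : Group.IsNilpotent Q := hQ.isNilpotent
  obtain ⟨R, hR⟩ := Cfsg.Agent.S0023.result Q M hQM hcop (Or.inl inferInstance) r
  refine ⟨(R : Subgroup M).map M.subtype, R.2.map _, ?_, hR⟩
  rw [Subgroup.card_map_of_injective M.subtype_injective]
  exact R.dvd_card_of_dvd_card hrM

/-- W6 : a proper normal subgroup of odd order is a `p`-group -/
theorem w_odd (pp : p.Prime) (hp2 : p ≠ 2) (hpG : p ∣ Nat.card G) (h2G : 2 ∣ Nat.card G)
    (E : ∀ H : Subgroup G, H ≠ ⊤ → 2 ∣ Nat.card H → TwoP p H)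
    (r : ℕ) (hr : r.Prime) (hrG : r ∣ Nat.card G) (hrp : r ≠ p) (hr2 : r ≠ 2)
    (M : Subgroup G) (hM : M.Normal) (hMt : M ≠ ⊤) (hodd : ¬ 2 ∣ Nat.card M) : IsPGroup p M := by
  haveI : Fact (Nat.Prime 2) := ⟨Nat.prime_two⟩
  haveI : Fact r.Prime := ⟨hr⟩
  haveI : Fact p.Prime := ⟨pp⟩
  haveI := hM
  obtain ⟨Q⟩ : Nonempty (Sylow 2 G) := inferInstance
  have h2Q : 2 ∣ Nat.card (Q : Subgroup G) := Q.dvd_card_of_dvd_card h2G
  obtain ⟨k, hk⟩ := IsPGroup.iff_card.mp Q.2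
  have hQM : (Q : Subgroup G) ≤ Subgroup.normalizer (M : Set G) := by
    rw [Subgroup.normalizer_eq_top]; exact le_top
  have h2H : 2 ∣ Nat.card (M ⊔ (Q : Subgroup G) : Subgroup G) :=
    h2Q.trans (Subgroup.card_dvd_of_le le_sup_right)
  by_cases hH : (M ⊔ (Q : Subgroup G) : Subgroup G) = ⊤
  · exfalso
    have hd := Cfsg.Agent.Lib.Helper22.card_sup_dvd hQM
    rw [hH, Subgroup.card_top, hk] at hd
    have hrM : r ∣ Nat.card M := by
      rcases (Nat.Prime.dvd_mul hr).1 (hrG.trans hd) with h | h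
      · exact h
      · exact absurd ((Nat.prime_dvd_prime_iff_eq hr Nat.prime_two).1 (hr.dvd_of_dvd_pow h)) hr2
    obtain ⟨R, hR, hrR, hQR⟩ := W6_inv_sylow Nat.prime_two Q M Q.2 hQM hodd r hr hrM
    have h2H' : 2 ∣ Nat.card (R ⊔ (Q : Subgroup G) : Subgroup G) :=
      h2Q.trans (Subgroup.card_dvd_of_le le_sup_right)
    have hrH' : r ∣ Nat.card (R ⊔ (Q : Subgroup G) : Subgroup G) :=
      hrR.trans (Subgroup.card_dvd_of_le le_sup_left)
    by_cases hH' : (R ⊔ (Q : Subgroup G) : Subgroup G) = ⊤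
    · have hd' := Cfsg.Agent.Lib.Helper22.card_sup_dvd hQR
      obtain ⟨l, hl⟩ := IsPGroup.iff_card.mp hR
      rw [hH', Subgroup.card_top, hk, hl] at hd'
      rcases (Nat.Prime.dvd_mul pp).1 (hpG.trans hd') with h | h
      · exact hrp ((Nat.prime_dvd_prime_iff_eq pp hr).1 (pp.dvd_of_dvd_pow h)).symm
      · exact hp2 ((Nat.prime_dvd_prime_iff_eq pp Nat.prime_two).1 (pp.dvd_of_dvd_pow h))
    · rcases W5_prime_of_twoP pp (E _ hH' h2H') hr hrH' with h | h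
      · exact hr2 h
      · exact hrp h
  · obtain ⟨i, j, hij⟩ := E _ hH h2H
    have hd : Nat.card M ∣ 2 ^ i * p ^ j := by
      rw [← hij]; exact Subgroup.card_dvd_of_le le_sup_left
    have hcop : (Nat.card M).Coprime (2 ^ i) :=
      (Nat.Coprime.pow_left i ((Nat.Prime.coprime_iff_not_dvd Nat.prime_two).2 hodd)).symm
    have hd' : Nat.card M ∣ p ^ j := hcop.dvd_of_dvd_mul_left hd
    obtain ⟨l, -, hl⟩ := (Nat.dvd_prime_pow pp).1 hd'
    exact IsPGroup.of_card hl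

end Cfsg.Agent.Lib.Helper59.TP
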