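import Cfsg.Agent.Lib.Helper59.TP.Base
import Cfsg.Agent.Lib.Helper59.TP.W6
import Cfsg.Agent.Lib.Helper22.SupLemmas
import Cfsg.Agent.S0071

set_option autoImplicit false

namespace Cfsg.Agent.Lib.Helper59.TP

open Cfsg.Agent.Lib.Helper59.CY

variable {G : Type*} [Group G] [Finite G] {p a : ℕ}

/-- W2 -/
theorem w_caseA {q : ℕ} (h : Hyp p q G)
    (hc : ∀ U : Subgroup G, IsPGroup q U → ∀ g ∈ Nz U, (orderOf g).Coprime q → g ∈ Cz U) :
    Concl p q G := by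
  intro r hr hrG
  by_contra hcon
  rw [not_or] at hcon
  obtain ⟨hrp, hrq⟩ := hcon
  have pp := h.hp
  have hq := h.hq
  haveI : Fact q.Prime := ⟨hq⟩
  haveI : Fact r.Prime := ⟨hr⟩
  haveI : Fact p.Prime := ⟨pp⟩
  obtain ⟨Q⟩ : Nonempty (Sylow q G) := inferInstance
  obtain ⟨N, hN, hcomp⟩ := (Cfsg.Agent.S0071.result Q).2
    (fun U hU g hg hgq => hc U (Q.2.to_le hU) g hg hgq)
  haveI := hN
  have hcard := hcomp.card_mul_card
  obtain ⟨k, hk⟩ := IsPGroup.iff_card.mp Q.2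
  have hqQ : q ∣ Nat.card (Q : Subgroup G) := Q.dvd_card_of_dvd_card h.hqG
  have hidx : Nat.card N = (Q : Subgroup G).index := by
    have h1 := (Q : Subgroup G).card_mul_index
    have h2 : Nat.card N * Nat.card (Q : Subgroup G) = (Q : Subgroup G).index * Nat.card (Q : Subgroup G) := by
      rw [hcard, mul_comm, h1]
    exact Nat.eq_of_mul_eq_mul_right Nat.card_pos h2
  have hqN : ¬ q ∣ Nat.card N := by
    rw [hidx]; exact Q.not_dvd_index
  have hrN : r ∣ Nat.card N := by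
    rw [← hcard, hk] at hrG
    rcases (Nat.Prime.dvd_mul hr).1 hrG with h' | h'
    · exact h'
    · exact absurd ((Nat.prime_dvd_prime_iff_eq hr hq).1 (hr.dvd_of_dvd_pow h')) hrq
  have hQN : (Q : Subgroup G) ≤ Subgroup.normalizer (N : Set G) := by
    rw [Subgroup.normalizer_eq_top]; exact le_top
  obtain ⟨R, hR, hrR, hQR⟩ := W6_inv_sylow hq Q N Q.2 hQN hqN r hr hrN
  have hqH : q ∣ Nat.card (R ⊔ (Q : Subgroup G) : Subgroup G) :=
    hqQ.trans (Subgroup.card_dvd_of_le le_sup_right)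
  have hrH : r ∣ Nat.card (R ⊔ (Q : Subgroup G) : Subgroup G) :=
    hrR.trans (Subgroup.card_dvd_of_le le_sup_left)
  have hnq : ¬ IsPGroup q (R ⊔ (Q : Subgroup G) : Subgroup G) := by
    intro hp'
    obtain ⟨l, hl⟩ := IsPGroup.iff_card.mp hp'
    rw [hl] at hrH
    exact hrq ((Nat.prime_dvd_prime_iff_eq hr hq).1 (hr.dvd_of_dvd_pow hrH))
  have hpH : p ∣ Nat.card (R ⊔ (Q : Subgroup G) : Subgroup G) := by
    by_cases hH : (R ⊔ (Q : Subgroup G) : Subgroup G) = ⊤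
    · rw [hH, Subgroup.card_top]; exact h.hpG
    · exact h.hmix _ hH hnq hqH
  have hd := Cfsg.Agent.Lib.Helper22.card_sup_dvd hQR
  obtain ⟨l, hl⟩ := IsPGroup.iff_card.mp hR
  rw [hk, hl] at hd
  rcases (Nat.Prime.dvd_mul pp).1 (hpH.trans hd) with h' | h'
  · exact hrp ((Nat.prime_dvd_prime_iff_eq pp hr).1 (pp.dvd_of_dvd_pow h')).symm
  · exact h.hpq ((Nat.prime_dvd_prime_iff_eq pp hq).1 (pp.dvd_of_dvd_pow h'))

end Cfsg.Agent.Lib.Helper59.TP
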