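import Mathlib

set_option autoImplicit false

namespace Cfsg.Agent.Lib.Helper59.TP

/-- W3 -/
theorem w_q2 {p q n : ℕ} (hp : p.Prime) (hq : q.Prime) (hp2 : p ≠ 2) (h : p = q ^ n - 1) :
    q = 2 ∧ 2 ≤ n := by
  have hodd : Odd p := hp.odd_of_ne_two hp2
  have hq2 : q = 2 := by
    by_contra hne
    have hqo : Odd q := hq.odd_of_ne_two hne
    have h1 : Odd (q ^ n) := hqo.pow
    obtain ⟨k, hk⟩ := h1
    obtain ⟨m, hm⟩ := hodd
    omega
  refine ⟨hq2, ?_⟩
  subst hq2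
  by_contra hn
  have h01 : n = 0 ∨ n = 1 := by omega
  rcases h01 with rfl | rfl
  · simp at h
    exact hp.ne_zero h
  · norm_num at h
    exact hp.ne_one h

end Cfsg.Agent.Lib.Helper59.TP
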