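import Cfsg.Agent.Lib.Helper59.TP.Base

set_option autoImplicit false
set_option linter.unusedSectionVars false

/-! # TP farm, piece W7 (Schur-Zassenhaus) -/

namespace Cfsg.Agent.Lib.Helper59.TP

open Cfsg.Agent.Lib.Helper59.CY

variable {G : Type*} [Group G] [Finite G] {p a : ℕ}

/-- W7 : Schur-Zassenhaus -/
theorem w_sz (pp : p.Prime) (hp2 : p ≠ 2) (h2G : 2 ∣ Nat.card G)
    (E : ∀ H : Subgroup G, H ≠ ⊤ → 2 ∣ Nat.card H → TwoP p H)
    (r : ℕ) (hr : r.Prime) (hrG : r ∣ Nat.card G) (hrp : r ≠ p) (hr2 : r ≠ 2)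
    (M : Subgroup G) [M.Normal] (hMb : M ≠ ⊥) (hMp : IsPGroup p M) : p ∣ Nat.card (G ⧸ M) := by
  by_contra hnd
  have : Fact p.Prime := ⟨pp⟩
  obtain ⟨k, hk⟩ := IsPGroup.iff_card.mp hMp
  have hidx : M.index = Nat.card (G ⧸ M) := rfl
  have hcop : Nat.Coprime (Nat.card M) M.index := by
    rw [hk, hidx]
    exact Nat.Coprime.pow_left k ((Nat.Prime.coprime_iff_not_dvd pp).mpr hnd)
  obtain ⟨K, hK⟩ := Subgroup.exists_right_complement'_of_coprime hcop
  have hcard : Nat.card M * Nat.card K = Nat.card G := hK.card_mul_card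
  have hM1 : 1 < Nat.card M := by
    rw [Subgroup.one_lt_card_iff_ne_bot]
    exact hMb
  have hKt : K ≠ ⊤ := by
    intro h
    rw [h, Subgroup.card_top] at hcard
    have hpos : 0 < Nat.card G := Nat.card_pos
    nlinarith
  have h2K : 2 ∣ Nat.card K := by
    rw [← hcard, hk] at h2G
    rcases (Nat.Prime.dvd_mul Nat.prime_two).mp h2G with h | h
    · exact absurd ((Nat.prime_dvd_prime_iff_eq Nat.prime_two pp).mp
        (Nat.prime_two.dvd_of_dvd_pow h)).symm hp2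
    · exact h
  obtain ⟨i, j, hij⟩ := E K hKt h2K
  rw [← hcard, hk, hij] at hrG
  rcases (Nat.Prime.dvd_mul hr).mp hrG with h | h
  · exact hrp ((Nat.prime_dvd_prime_iff_eq hr pp).mp (hr.dvd_of_dvd_pow h))
  · rcases (Nat.Prime.dvd_mul hr).mp h with h | h
    · exact hr2 ((Nat.prime_dvd_prime_iff_eq hr Nat.prime_two).mp (hr.dvd_of_dvd_pow h))
    · exact hrp ((Nat.prime_dvd_prime_iff_eq hr pp).mp (hr.dvd_of_dvd_pow h))

end Cfsg.Agent.Lib.Helper59.TP
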