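import Cfsg.Agent.Lib.Helper59.TP.Base

/-!
# Farm TP (helper59, S4017), piece W8
-/

set_option autoImplicit false
set_option linter.unusedSectionVars false
set_option linter.unusedVariables false
set_option linter.style.haveILetI false

namespace Cfsg.Agent.Lib.Helper59.TP

open Cfsg.Agent.Lib.Helper59.CY

variable {G : Type*} [Group G] [Finite G] {p a : ℕ}

theorem W8_card_comap (M : Subgroup G) [M.Normal] (K : Subgroup (G ⧸ M)) :
    Nat.card (K.comap (QuotientGroup.mk' M)) = Nat.card K * Nat.card M := by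
  have h1 : (K.comap (QuotientGroup.mk' M)).index = K.index :=
    Subgroup.index_comap_of_surjective K (QuotientGroup.mk'_surjective M)
  have h2 := Subgroup.card_mul_index (K.comap (QuotientGroup.mk' M))
  have h3 := Subgroup.card_mul_index K
  have h4 := Subgroup.card_eq_card_quotient_mul_card_subgroup M
  have h5 : K.index ≠ 0 := Subgroup.index_ne_zero_of_finite
  rw [h1, h4, ← h3] at h2
  have h6 : Nat.card (K.comap (QuotientGroup.mk' M)) * K.index =
      (Nat.card K * Nat.card M) * K.index := by rw [h2]; ring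
  exact Nat.eq_of_mul_eq_mul_right (Nat.pos_of_ne_zero h5) h6

/-- W8 : the quotient by a normal `p`-subgroup inherits the hypotheses -/
theorem w_quot (h : Hyp p 2 G) (hpa : p = 2 ^ (Nat.card G).factorization 2 - 1)
    (hab : ∀ P : Sylow p G, IsMulCommutative P)
    (E : ∀ H : Subgroup G, H ≠ ⊤ → 2 ∣ Nat.card H → TwoP p H)
    (M : Subgroup G) [M.Normal] (hMp : IsPGroup p M) (hpq : p ∣ Nat.card (G ⧸ M)) : Hyp p 2 (G ⧸ M) := by
  haveI : Fact p.Prime := ⟨h.hp⟩
  haveI : Fact (Nat.Prime 2) := ⟨Nat.prime_two⟩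
  obtain ⟨k, hk⟩ := IsPGroup.iff_card.1 hMp
  have hcard := Subgroup.card_eq_card_quotient_mul_card_subgroup M
  have hcop : Nat.Coprime 2 p := (Nat.coprime_primes Nat.prime_two h.hp).2 h.hp2.symm
  refine ⟨h.hp, h.hq, h.hpq, h.hp2, hpq, ?_, ?_, ?_⟩
  · have h1 : 2 ∣ Nat.card (G ⧸ M) * Nat.card M := hcard ▸ h.hqG
    rw [hk] at h1
    exact (Nat.Coprime.pow_right k hcop).dvd_of_dvd_mul_right h1
  · intro K hK hKp hK2
    have hc := W8_card_comap M K
    have hne : K.comap (QuotientGroup.mk' M) ≠ ⊤ := by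
      intro ht
      apply hK
      have := Subgroup.map_comap_eq_self_of_surjective (QuotientGroup.mk'_surjective M) K
      rw [ht, ← MonoidHom.range_eq_map, MonoidHom.range_eq_top.2 (QuotientGroup.mk'_surjective M)]
        at this
      exact this.symm
    have h2' : 2 ∣ Nat.card (K.comap (QuotientGroup.mk' M)) := by
      rw [hc]; exact hK2.mul_right _
    obtain ⟨i, j, hij⟩ := E _ hne h2'
    by_contra hpK
    apply hKp
    have hcopK : Nat.Coprime (Nat.card K) (p ^ j) :=
      Nat.Coprime.pow_right j ((Nat.Prime.coprime_iff_not_dvd h.hp).2 hpK).symm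
    have hd : Nat.card K ∣ 2 ^ i * p ^ j := by
      rw [← hij, hc]; exact Dvd.intro _ rfl
    have hd2 : Nat.card K ∣ 2 ^ i := hcopK.dvd_of_dvd_mul_right hd
    obtain ⟨n, _, hn⟩ := (Nat.dvd_prime_pow Nat.prime_two).1 hd2
    exact IsPGroup.of_card hn
  · right
    constructor
    · have h1 : (Nat.card G).factorization 2 = (Nat.card (G ⧸ M)).factorization 2 := by
        rw [hcard, Nat.factorization_mul Nat.card_pos.ne' Nat.card_pos.ne', hk,
          Nat.factorization_pow]
        simp [Nat.factorization_eq_zero_of_not_dvd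
          (fun hd => h.hp2 ((Nat.prime_dvd_prime_iff_eq Nat.prime_two h.hp).1 hd).symm)]
      rw [← h1]; exact hpa
    · intro P
      have hc := W8_card_comap M (P : Subgroup (G ⧸ M))
      obtain ⟨n, hn⟩ := IsPGroup.iff_card.1 P.2
      have hpP : IsPGroup p ((P : Subgroup (G ⧸ M)).comap (QuotientGroup.mk' M)) :=
        IsPGroup.of_card (n := n + k) (by rw [hc, hn, hk, pow_add])
      obtain ⟨P', hP'⟩ := hpP.exists_le_sylow
      refine ⟨⟨fun x y => ?_⟩⟩
      obtain ⟨x, hx⟩ := x
      obtain ⟨y, hy⟩ := y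
      obtain ⟨g, rfl⟩ := QuotientGroup.mk'_surjective M x
      obtain ⟨g', rfl⟩ := QuotientGroup.mk'_surjective M y
      have hg : g ∈ (P' : Subgroup G) := hP' hx
      have hg' : g' ∈ (P' : Subgroup G) := hP' hy
      have := (hab P').is_comm.comm ⟨_, hg⟩ ⟨_, hg'⟩
      have h3 : g * g' = g' * g := congrArg Subtype.val this
      apply Subtype.ext
      change QuotientGroup.mk' M g * QuotientGroup.mk' M g' =
        QuotientGroup.mk' M g' * QuotientGroup.mk' M g
      rw [← map_mul, ← map_mul, h3]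

end Cfsg.Agent.Lib.Helper59.TP
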