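import Cfsg.Agent.Lib.Helper59.TP.Base

set_option autoImplicit false

namespace Cfsg.Agent.Lib.Helper59.TP

open Cfsg.Agent.Lib.Helper59.CY

variable {G : Type*} [Group G] [Finite G] {p a : ℕ}

/-- Z1 aux : `p` is odd in situation B -/
theorem Z1_p_ne_two (h : SB p a G) : p ≠ 2 := by
  intro h2
  have ha := h.ha
  have hpa := h.hpa
  obtain ⟨b, rfl⟩ : ∃ b, a = b + 2 := ⟨a - 2, by omega⟩
  rw [pow_add] at hpa
  omega

/-- Z1 aux : `G` is not commutative in situation B -/
theorem Z1_not_comm (h : SB p a G) : ¬ ∀ x y : G, x * y = y * x := by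
  intro hab
  have Q : Sylow 2 G := default
  have hQn : (Q : Subgroup G).Normal :=
    ⟨fun n hn g => by rw [hab g n, mul_inv_cancel_right]; exact hn⟩
  have hc := h.card2 Q
  have ha := h.ha
  have h4 : 4 ≤ 2 ^ a := by
    calc 4 = 2 ^ 2 := by norm_num
      _ ≤ 2 ^ a := Nat.pow_le_pow_right (by norm_num) ha
  rcases h.simp _ hQn with h0 | h1
  · rw [h0, Subgroup.card_bot] at hc
    omega
  · rw [h1, Subgroup.card_top] at hc
    have hd := h.pdvd
    rw [hc] at hd
    have := (Nat.prime_dvd_prime_iff_eq h.pp Nat.prime_two).mp (h.pp.dvd_of_dvd_pow hd)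
    exact Z1_p_ne_two h this

/-- Z1 -/
theorem zc (h : SB p a G) (u : G) (hu : u ≠ 1) : Ce u ≠ ⊤ := by
  intro hc
  have hcomm : ∀ g : G, Commute g u := by
    intro g
    have hg : g ∈ Ce u := by rw [hc]; trivial
    have := Subgroup.mem_centralizer_singleton_iff.mp hg
    exact this
  have hn : (Subgroup.zpowers u).Normal := by
    constructor
    intro n hn g
    obtain ⟨k, rfl⟩ := Subgroup.mem_zpowers_iff.mp hn
    have h1 : g * u ^ k * g⁻¹ = u ^ k := by
      have h2 : Commute g (u ^ k) := (hcomm g).zpow_right k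
      rw [h2.eq, mul_inv_cancel_right]
    rw [h1]
    exact Subgroup.zpow_mem_zpowers u k
  rcases h.simp _ hn with h0 | h1
  · exact hu (Subgroup.zpowers_eq_bot.mp h0)
  · apply Z1_not_comm h
    intro x y
    have hx : x ∈ Subgroup.zpowers u := h1 ▸ Subgroup.mem_top x
    have hy : y ∈ Subgroup.zpowers u := h1 ▸ Subgroup.mem_top y
    obtain ⟨i, rfl⟩ := Subgroup.mem_zpowers_iff.mp hx
    obtain ⟨j, rfl⟩ := Subgroup.mem_zpowers_iff.mp hy
    rw [← zpow_add, ← zpow_add, add_comm]

end Cfsg.Agent.Lib.Helper59.TP
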