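import Cfsg.Agent.Lib.Helper59.TP.Base
import Cfsg.Agent.Lib.Helper59.CY.G1
import Cfsg.Agent.Lib.Helper59.TP.Z1

/-! TP farm (S4017), piece Z10. -/

set_option autoImplicit false

namespace Cfsg.Agent.Lib.Helper59.TP

open Cfsg.Agent.Lib.Helper59.CY

variable {G : Type*} [Group G] [Finite G] {p a : ℕ}

theorem Z10_core (h : SB p a G) (hel : ∀ Q : Sylow 2 G, ∀ u ∈ (Q : Subgroup G), u * u = 1)
    (hfix : ∀ Q : Sylow 2 G, ∀ g ∈ Nz (Q : Subgroup G),
      (∃ t ∈ (Q : Subgroup G), t ≠ 1 ∧ g * t = t * g) → ∀ u ∈ (Q : Subgroup G), g * u = u * g)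
    (t : G) (ht : orderOf t = 2) (hCtop : Ce t ≠ ⊤) :
    IsPGroup p (Yt p t) ∧ Nat.card (Ce t) = Nat.card (Yt p t) * 2 ^ a := by
  have : Fact (Nat.Prime 2) := ⟨Nat.prime_two⟩
  have hpp := h.pp
  have ht1 : t ≠ 1 := by
    rintro rfl
    simp at ht
  have hz : IsPGroup 2 (Subgroup.zpowers t) := by
    apply IsPGroup.of_card (n := 1)
    rw [Nat.card_zpowers, ht]; norm_num
  obtain ⟨Q, hQ⟩ := hz.exists_le_sylow
  have htQ : t ∈ (Q : Subgroup G) := hQ (Subgroup.mem_zpowers t)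
  have hab : ∀ x ∈ (Q : Subgroup G), ∀ y ∈ (Q : Subgroup G), x * y = y * x := by
    intro x hx y hy
    have hx' : x⁻¹ = x := inv_eq_of_mul_eq_one_left (hel Q x hx)
    have hy' : y⁻¹ = y := inv_eq_of_mul_eq_one_left (hel Q y hy)
    have h3 : (x * y)⁻¹ = x * y := inv_eq_of_mul_eq_one_left (hel Q (x * y) (mul_mem hx hy))
    rw [mul_inv_rev, hx', hy'] at h3
    exact h3.symm
  have hQC : (Q : Subgroup G) ≤ Ce t := by
    intro x hx
    rw [Subgroup.mem_centralizer_iff]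
    intro y hy
    rw [Set.mem_singleton_iff.mp hy]
    exact hab t htQ x hx
  have hcardQ := h.card2 Q
  have h2C : 2 ∣ Nat.card (Ce t) := by
    refine dvd_trans ?_ (Subgroup.card_dvd_of_le hQC)
    rw [hcardQ]
    exact dvd_pow_self 2 (by have := h.ha; omega)
  obtain ⟨i, j, hij⟩ := h.E (Ce t) hCtop h2C
  have hcomm : ∀ g : Ce t, (g : G) * t = t * g := by
    intro g
    have := Subgroup.mem_centralizer_iff.mp g.2 t (Set.mem_singleton t)
    exact this.symm
  have hNC : Subgroup.normalizer ((Q.subtype hQC : Sylow 2 (Ce t)) : Set (Ce t))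
      ≤ Subgroup.centralizer ((Q.subtype hQC : Sylow 2 (Ce t)) : Set (Ce t)) := by
    intro g hg
    have hg' : (g : G) ∈ Nz (Q : Subgroup G) := by
      have h1 : g ∈ (Subgroup.normalizer ((Q : Subgroup G) : Set G)).subgroupOf (Ce t) := by
        rw [Subgroup.subgroupOf_normalizer_eq hQC]
        exact hg
      exact h1
    have h2 := hfix Q g hg' ⟨t, htQ, ht1, hcomm g⟩
    rw [Subgroup.mem_centralizer_iff]
    intro y hy
    apply Subtype.ext
    exact (h2 y.1 hy).symm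
  obtain ⟨φ, hφ⟩ : ∃ φ : Ce t →* (Q.subtype hQC : Sylow 2 (Ce t)),
      φ = MonoidHom.transferSylow (Q.subtype hQC) hNC := ⟨_, rfl⟩
  have hcompl : Subgroup.IsComplement' φ.ker ((Q.subtype hQC : Sylow 2 (Ce t)) : Subgroup (Ce t)) := by
    rw [hφ]; exact MonoidHom.ker_transferSylow_isComplement' _ hNC
  have hodd : ¬ 2 ∣ Nat.card φ.ker := by
    rw [hφ]; exact MonoidHom.not_dvd_card_ker_transferSylow _ hNC
  have hcardQ' : Nat.card ((Q.subtype hQC : Sylow 2 (Ce t)) : Subgroup (Ce t)) = 2 ^ a := by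
    rw [Sylow.coe_subtype, ← hcardQ]
    exact Nat.card_congr (Subgroup.subgroupOfEquivOfLe hQC).toEquiv
  have hcard : Nat.card φ.ker * 2 ^ a = Nat.card (Ce t) := by
    rw [← hcardQ']; exact hcompl.card_mul_card
  have hkp : IsPGroup p φ.ker := by
    have hd : Nat.card φ.ker ∣ 2 ^ i * p ^ j := hij ▸ Subgroup.card_subgroup_dvd_card _
    have hc : (Nat.card φ.ker).Coprime (2 ^ i) :=
      Nat.Coprime.pow_right i ((Nat.coprime_comm.mp ((Nat.Prime.coprime_iff_not_dvd Nat.prime_two).mpr hodd)))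
    have hd2 : Nat.card φ.ker ∣ p ^ j := hc.dvd_of_dvd_mul_left hd
    obtain ⟨k, -, hk⟩ := (Nat.dvd_prime_pow hpp).mp hd2
    exact IsPGroup.of_card hk
  have hp2 : p ≠ 2 := by
    intro h2
    have h3 := h.hpa
    have h4 := h.ha
    have h5 : 2 ^ 2 ≤ 2 ^ a := Nat.pow_le_pow_right (by norm_num) h4
    omega
  have hY : Yt p t = φ.ker.map (Ce t).subtype := by
    apply le_antisymm
    · unfold Yt
      rw [Subgroup.closure_le]
      rintro g ⟨hgt, k, hk⟩
      have hgC : g ∈ Ce t := by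
        rw [Subgroup.mem_centralizer_iff]
        intro y hy
        rw [Set.mem_singleton_iff.mp hy]
        exact hgt.symm
      refine ⟨⟨g, hgC⟩, ?_, rfl⟩
      show (⟨g, hgC⟩ : Ce t) ∈ φ.ker
      rw [MonoidHom.mem_ker]
      have h1 : orderOf (φ ⟨g, hgC⟩) ∣ p ^ k := by
        rw [← hk, ← Subgroup.orderOf_mk g hgC]
        exact orderOf_map_dvd φ _
      have h2 : orderOf (φ ⟨g, hgC⟩) ∣ 2 ^ a := by
        rw [← hcardQ']
        exact orderOf_dvd_natCard _
      have h3 : (p ^ k).Coprime (2 ^ a) :=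
        Nat.Coprime.pow k a ((Nat.coprime_primes hpp Nat.prime_two).mpr hp2)
      have h4 : orderOf (φ ⟨g, hgC⟩) = 1 := Nat.eq_one_of_dvd_coprimes h3 h1 h2
      exact orderOf_eq_one_iff.mp h4
    · rintro _ ⟨n, hn, rfl⟩
      apply Subgroup.subset_closure
      refine ⟨hcomm n, ?_⟩
      have : Fact p.Prime := ⟨hpp⟩
      obtain ⟨k, hk⟩ := (IsPGroup.iff_orderOf.mp hkp) ⟨n, hn⟩
      exact ⟨k, by
        have : orderOf (⟨n, hn⟩ : φ.ker) = orderOf (n : G) := by
          rw [Subgroup.orderOf_mk, Subgroup.orderOf_coe]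
        show orderOf (n : G) = p ^ k
        rw [← this]; exact hk⟩
  have hcY : Nat.card (Yt p t) = Nat.card φ.ker := by
    rw [hY]; exact Subgroup.card_map_of_injective (Ce t).subtype_injective
  refine ⟨?_, by rw [hcY, hcard]⟩
  rw [hY]
  exact hkp.map _

/-- Z10 -/
theorem yt_str (h : SB p a G) (hel : ∀ Q : Sylow 2 G, ∀ u ∈ (Q : Subgroup G), u * u = 1)
    (hfix : ∀ Q : Sylow 2 G, ∀ g ∈ Nz (Q : Subgroup G),
      (∃ t ∈ (Q : Subgroup G), t ≠ 1 ∧ g * t = t * g) → ∀ u ∈ (Q : Subgroup G), g * u = u * g)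
    (t : G) (ht : orderOf t = 2) :
    IsPGroup p (Yt p t) ∧ Nat.card (Ce t) = Nat.card (Yt p t) * 2 ^ a :=
  Z10_core h hel hfix t ht (zc h t (by rintro rfl; simp at ht))

end Cfsg.Agent.Lib.Helper59.TP
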