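import Cfsg.Agent.Lib.Helper59.TP.Base
import Cfsg.Agent.Lib.Helper1.Cores
import Cfsg.Agent.S0144
import Cfsg.Agent.S0018

/-! TP farm (S4017), piece Z11. -/

set_option autoImplicit false

namespace Cfsg.Agent.Lib.Helper59.TP

open Cfsg.Agent.Lib.Helper59.CY

variable {G : Type*} [Group G] [Finite G] {p a : ℕ}

omit [Finite G] in
/-- a normal subgroup of `L`, mapped to `G`, is normalized by `L` -/
theorem Z11_le_nz (L : Subgroup G) (N : Subgroup L) [hN : N.Normal] :
    L ≤ Nz (N.map L.subtype) := by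
  have h := Subgroup.le_normalizer_map (H := N) L.subtype
  rw [Subgroup.normalizer_eq_top, ← MonoidHom.range_eq_map, Subgroup.range_subtype] at h
  exact h

/-- Z11 -/
theorem tool (h : SB p a G) (L : Subgroup G) (P : Sylow p G) (hL : L ≠ ⊤) (h2 : 2 ∣ Nat.card L)
    (hPL : (P : Subgroup G) ≤ L) :
    ∃ U : Subgroup G, IsPGroup 2 U ∧ U ≤ L ∧ L ≤ Nz U ∧ L ≤ Nz ((P : Subgroup G) ⊔ U) := by
  haveI : Fact p.Prime := ⟨h.pp⟩
  obtain ⟨i, j, hij⟩ := h.E L hL h2
  haveI : Group.IsSolvable L := Cfsg.Agent.S0144.result 2 p i j Nat.prime_two h.pp hij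
  have hP'c : IsMulCommutative (P.subtype hPL) := by
    constructor; constructor
    rintro ⟨x, hx⟩ ⟨y, hy⟩
    apply Subtype.ext; apply Subtype.ext
    exact h.pab P x.1 hx y.1 hy
  have hN := Cfsg.Agent.S0018.result p (P.subtype hPL) hP'c
  haveI := Cfsg.Agent.Lib.Helper1.pPrimeCore_normal (G := L) p
  refine ⟨(Cfsg.pPrimeCore p L).map L.subtype, ?_, Subgroup.map_subtype_le _, Z11_le_nz L _, ?_⟩
  · have hc : (Nat.card (Cfsg.pPrimeCore p L)).Coprime p :=
      Cfsg.Agent.Lib.Helper1.pPrimeCore_coprime h.pp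
    have hd : Nat.card (Cfsg.pPrimeCore p L) ∣ 2 ^ i * p ^ j :=
      hij ▸ Subgroup.card_subgroup_dvd_card _
    have hd2 : Nat.card (Cfsg.pPrimeCore p L) ∣ 2 ^ i :=
      (Nat.Coprime.pow_right j hc).dvd_of_dvd_mul_right hd
    obtain ⟨k, -, hk⟩ := (Nat.dvd_prime_pow Nat.prime_two).mp hd2
    apply IsPGroup.of_card (n := k)
    rw [Subgroup.card_map_of_injective L.subtype_injective, hk]
  · have h3 := Z11_le_nz L (((P.subtype hPL : Sylow p L) : Subgroup L) ⊔ Cfsg.pPrimeCore p L)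
    rw [Subgroup.map_sup] at h3
    have h4 : ((P.subtype hPL : Sylow p L) : Subgroup L).map L.subtype = P := by
      rw [Sylow.coe_subtype, Subgroup.map_subgroupOf_eq_of_le hPL]
    rwa [h4] at h3

end Cfsg.Agent.Lib.Helper59.TP
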