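import Cfsg.Agent.Lib.Helper59.TP.Z1

set_option autoImplicit false

namespace Cfsg.Agent.Lib.Helper59.TP

open Cfsg.Agent.Lib.Helper59.CY

variable {G : Type*} [Group G] [Finite G] {p a : ℕ}

omit [Finite G] in
/-- Z12 aux : an element inverting `w` (and of square one) normalizes `zpowers w` -/
theorem Z12_mem_nz (t w : G) (ht : t * t = 1) (hw : t * w * t⁻¹ = w⁻¹) :
    t ∈ Nz (Subgroup.zpowers w) := by
  have hk : ∀ k : ℤ, t * w ^ k * t⁻¹ = (w ^ k)⁻¹ := by
    intro k
    have h1 : t * w ^ k * t⁻¹ = (t * w * t⁻¹) ^ k := (conj_zpow).symm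
    rw [h1, hw, inv_zpow]
  have hti : t⁻¹ = t := inv_eq_of_mul_eq_one_left ht
  rw [Subgroup.mem_normalizer_iff]
  intro x
  constructor
  · intro hx
    obtain ⟨k, rfl⟩ := Subgroup.mem_zpowers_iff.mp hx
    have : t * w ^ k * t⁻¹ ∈ Subgroup.zpowers w := by
      rw [hk]
      exact inv_mem (Subgroup.zpow_mem_zpowers w k)
    exact this
  · intro hx
    obtain ⟨k, hk'⟩ := Subgroup.mem_zpowers_iff.mp hx
    have h2 : x = t * w ^ k * t⁻¹ := by
      rw [hk', hti]
      calc x = (t * t) * x * (t * t) := by rw [ht]; simp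
        _ = t * (t * x * t) * t := by group
    have : x ∈ Subgroup.zpowers w := by
      rw [h2, hk]
      exact inv_mem (Subgroup.zpow_mem_zpowers w k)
    exact this

/-- Z12 -/
theorem prod (h : SB p a G) (s t : G) (hs : orderOf s = 2) (ht : orderOf t = 2) :
    PE p (t * s) ∨ ∃ e : G, orderOf e = 2 ∧ e * t = t * e ∧ e * s = s * e := by
  have hss : s * s = 1 := by rw [← pow_two, ← hs]; exact pow_orderOf_eq_one s
  have htt : t * t = 1 := by rw [← pow_two, ← ht]; exact pow_orderOf_eq_one t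
  have hsi : s⁻¹ = s := inv_eq_of_mul_eq_one_left hss
  have hti : t⁻¹ = t := inv_eq_of_mul_eq_one_left htt
  set w := t * s with hw
  by_cases hw1 : w = 1
  · left
    exact ⟨0, by rw [hw1]; simp⟩
  have htw : t * w * t⁻¹ = w⁻¹ := by
    rw [hw, mul_inv_rev, hsi, hti]
    calc t * (t * s) * t = (t * t) * s * t := by group
      _ = s * t := by rw [htt, one_mul]
  have hsw : s * w * s⁻¹ = w⁻¹ := by
    rw [hw, mul_inv_rev, hsi, hti]
    calc s * (t * s) * s = s * t * (s * s) := by group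
      _ = s * t := by rw [hss, mul_one]
  have htN := Z12_mem_nz t w htt htw
  -- the normalizer of `zpowers w` is proper
  have hNtop : Nz (Subgroup.zpowers w) ≠ ⊤ := by
    intro hN
    have hn : (Subgroup.zpowers w).Normal := Subgroup.normalizer_eq_top_iff.mp hN
    rcases h.simp _ hn with h0 | h1
    · exact hw1 (Subgroup.zpowers_eq_bot.mp h0)
    · apply Z1_not_comm h
      intro x y
      have hx : x ∈ Subgroup.zpowers w := h1 ▸ Subgroup.mem_top x
      have hy : y ∈ Subgroup.zpowers w := h1 ▸ Subgroup.mem_top y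
      obtain ⟨i, rfl⟩ := Subgroup.mem_zpowers_iff.mp hx
      obtain ⟨j, rfl⟩ := Subgroup.mem_zpowers_iff.mp hy
      rw [← zpow_add, ← zpow_add, add_comm]
  have h2N : 2 ∣ Nat.card (Nz (Subgroup.zpowers w)) := by
    rw [← ht]
    exact Subgroup.orderOf_dvd_natCard _ htN
  obtain ⟨i, j, hij⟩ := h.E _ hNtop h2N
  have hwN : w ∈ Nz (Subgroup.zpowers w) :=
    Subgroup.le_normalizer (Subgroup.mem_zpowers w)
  have hod : orderOf w ∣ 2 ^ i * p ^ j := by
    rw [← hij]
    exact Subgroup.orderOf_dvd_natCard _ hwN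
  obtain ⟨d1, d2, hd1, hd2, hd⟩ := (Nat.dvd_mul).mp hod
  obtain ⟨i', -, rfl⟩ := (Nat.dvd_prime_pow Nat.prime_two).mp hd1
  obtain ⟨j', -, rfl⟩ := (Nat.dvd_prime_pow h.pp).mp hd2
  rcases Nat.eq_zero_or_pos i' with hi0 | hipos
  · left
    exact ⟨j', by rw [← hd, hi0]; simp⟩
  · right
    obtain ⟨m, rfl⟩ : ∃ m, i' = m + 1 := ⟨i' - 1, by omega⟩
    have hord : orderOf w = (2 ^ m * p ^ j') * 2 := by rw [← hd, pow_succ]; ring
    have hmpos : 0 < 2 ^ m * p ^ j' := Nat.mul_pos (by positivity) (pow_pos h.pp.pos _)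
    set e := w ^ (2 ^ m * p ^ j') with he
    have hoe : orderOf e = 2 := by
      have h1 : orderOf e = orderOf w / (2 ^ m * p ^ j') :=
        orderOf_pow_of_dvd hmpos.ne' ⟨2, hord⟩
      rw [h1, hord, Nat.mul_div_cancel_left _ hmpos]
    have hee : e * e = 1 := by rw [← pow_two, ← hoe]; exact pow_orderOf_eq_one e
    have hei : e⁻¹ = e := inv_eq_of_mul_eq_one_left hee
    have hconj : ∀ x : G, x * w * x⁻¹ = w⁻¹ → e * x = x * e := by
      intro x hx
      have h1 : x * e * x⁻¹ = e := by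
        rw [he, ← conj_pow, hx, inv_pow, ← he, hei]
      calc e * x = (x * e * x⁻¹) * x := by rw [h1]
        _ = x * e := by group
    exact ⟨e, hoe, hconj t htw, hconj s hsw⟩

end Cfsg.Agent.Lib.Helper59.TP
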