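import Cfsg.Agent.Lib.Helper59.TP.Base

set_option autoImplicit false

namespace Cfsg.Agent.Lib.Helper59.TP

open Cfsg.Agent.Lib.Helper59.CY

universe u

variable {G : Type*} [Group G] [Finite G] {p a : ℕ}

/-- Z2 -/
theorem nn (h : SB p a G) (H : Subgroup G) (h1 : H ≠ ⊥) (h2 : H ≠ ⊤) : Nz H ≠ ⊤ := by
  intro hN
  have hn : H.Normal := Subgroup.normalizer_eq_top_iff.1 hN
  rcases h.simp H hn with h3 | h3
  · exact h1 h3
  · exact h2 h3

end Cfsg.Agent.Lib.Helper59.TP
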