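import Cfsg.Agent.Lib.Helper59.TP.Base

set_option autoImplicit false

namespace Cfsg.Agent.Lib.Helper59.TP

open Cfsg.Agent.Lib.Helper59.CY

variable {G : Type*} [Group G] [Finite G] {p a : ℕ}

/-- Z3 -/
theorem small (pp : p.Prime) (U : Subgroup G) (hU : Nat.card U ≤ p) (g : G) (hg : g ∈ Nz U)
    (hgp : PE p g) : ∀ u ∈ U, g * u = u * g := by
  intro u hu
  by_cases hu1 : u = 1
  · simp [hu1]
  obtain ⟨k, hk⟩ := hgp
  let Z : Subgroup (ConjAct G) := Subgroup.zpowers (ConjAct.toConjAct g)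
  have hcardZ : Nat.card Z = p ^ k := by
    rw [Nat.card_zpowers, ← hk]
    exact MulEquiv.orderOf_eq ConjAct.toConjAct g
  have hZN : ∀ z ∈ Z, ConjAct.ofConjAct z ∈ Nz U := by
    intro z hz
    obtain ⟨i, rfl⟩ := Subgroup.mem_zpowers_iff.mp hz
    rw [map_zpow]
    exact zpow_mem hg i
  have hsub : MulAction.orbit Z u ⊆ ((U : Set G) \ {1}) := by
    rintro _ ⟨z, rfl⟩
    have h1 : z • u = ConjAct.ofConjAct (z : ConjAct G) * u * (ConjAct.ofConjAct (z : ConjAct G))⁻¹ := by
      rw [Subgroup.smul_def, ConjAct.smul_def]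
    have h2 := (Subgroup.mem_normalizer_iff.mp (hZN z z.2) u).mp hu
    refine ⟨by simp only [h1]; exact h2, ?_⟩
    simp only [h1, Set.mem_singleton_iff]
    intro h3
    apply hu1
    have h4 := congrArg (fun t => (ConjAct.ofConjAct (z : ConjAct G))⁻¹ * t * ConjAct.ofConjAct (z : ConjAct G)) h3
    simpa [mul_assoc] using h4
  have hle : (MulAction.orbit Z u).ncard ≤ p - 1 := by
    have h1 := Set.ncard_le_ncard hsub (Set.toFinite _)
    have h2 : ((U : Set G) \ {1}).ncard = (U : Set G).ncard - 1 :=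
      Set.ncard_sdiff_singleton_of_mem U.one_mem
    have h3 : (U : Set G).ncard = Nat.card U := rfl
    omega
  have hdvd : (MulAction.orbit Z u).ncard ∣ p ^ k := by
    rw [← hcardZ, ← MulAction.index_stabilizer]
    exact Subgroup.index_dvd_card _
  obtain ⟨j, -, hj⟩ := (Nat.dvd_prime_pow pp).mp hdvd
  have hj0 : j = 0 := by
    by_contra hne
    have : p ≤ p ^ j := Nat.le_self_pow hne p
    have := pp.pos
    omega
  rw [hj0, pow_zero] at hj
  obtain ⟨x, hx⟩ := Set.ncard_eq_one.mp hj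
  have h1 : u ∈ MulAction.orbit Z u := MulAction.mem_orbit_self u
  have h2 : (⟨ConjAct.toConjAct g, Subgroup.mem_zpowers _⟩ : Z) • u ∈ MulAction.orbit Z u :=
    MulAction.mem_orbit _ _
  rw [hx, Set.mem_singleton_iff] at h1 h2
  have h3 : g * u * g⁻¹ = u := by
    rw [Subgroup.smul_def, ConjAct.smul_def] at h2
    simp only [ConjAct.ofConjAct_toConjAct] at h2
    rw [h2, ← h1]
  calc g * u = g * u * g⁻¹ * g := by group
    _ = u * g := by rw [h3]

end Cfsg.Agent.Lib.Helper59.TP
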