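import Cfsg.Agent.Lib.Helper59.TP.Base
import Cfsg.Agent.Lib.Helper59.TP.Z2
import Cfsg.Agent.Lib.Helper59.TP.Z3
import Cfsg.Agent.S0071

set_option autoImplicit false
set_option linter.unusedSectionVars false

namespace Cfsg.Agent.Lib.Helper59.TP

open Cfsg.Agent.Lib.Helper59.CY

variable {G : Type*} [Group G] [Finite G] {p a : ℕ}

theorem Z4_not_two_pow (h : SB p a G) : Nat.card G ≠ 2 ^ a := by
  intro hG
  have hd := h.pdvd
  rw [hG] at hd
  have h2 : p = 2 := (Nat.prime_dvd_prime_iff_eq h.pp Nat.prime_two).1 (h.pp.dvd_of_dvd_pow hd)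
  have h3 := h.hpa
  have ha := h.ha
  have h4 : 2 ^ a = 2 * 2 ^ (a - 1) := by
    rw [← pow_succ']; congr 1; omega
  omega

/-- Z4 -/
theorem exQ (h : SB p a G) : ∃ Q : Sylow 2 G, ∃ x ∈ Nz (Q : Subgroup G), PE p x ∧
    ∃ u ∈ (Q : Subgroup G), x * u ≠ u * x := by
  classical
  have : Fact (Nat.Prime 2) := ⟨Nat.prime_two⟩
  let Q0 : Sylow 2 G := default
  have hQ0 : Nat.card (Q0 : Subgroup G) = 2 ^ a := h.card2 Q0
  have ha := h.ha
  have h2a : 4 ≤ 2 ^ a := by
    calc 4 = 2 ^ 2 := rfl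
      _ ≤ 2 ^ a := Nat.pow_le_pow_right (by norm_num) ha
  by_cases hF : ∀ U : Subgroup G, U ≤ (Q0 : Subgroup G) → ∀ g ∈ Subgroup.normalizer (U : Set G),
      Nat.Coprime (orderOf g) 2 → g ∈ Subgroup.centralizer (U : Set G)
  · exfalso
    obtain ⟨N, hN, hc⟩ := (Cfsg.Agent.S0071.result Q0).2 hF
    have hcard := hc.card_mul_card
    rw [hQ0] at hcard
    rcases h.simp N hN with rfl | rfl
    · rw [Subgroup.card_bot, one_mul] at hcard
      exact Z4_not_two_pow h hcard.symm
    · rw [Subgroup.card_top] at hcard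
      have hpos : 0 < Nat.card G := Nat.card_pos
      have : Nat.card G * 2 ^ a = Nat.card G * 1 := by rw [hcard, mul_one]
      have := Nat.eq_of_mul_eq_mul_left hpos this
      omega
  · push Not at hF
    obtain ⟨U, hU, g, hgN, hg2, hgC⟩ := hF
    have hU1 : U ≠ ⊥ := by
      rintro rfl
      apply hgC
      rw [Subgroup.mem_centralizer_iff]
      intro x hx
      have : x = 1 := hx
      rw [this]; simp
    have hU2 : U ≠ ⊤ := by
      rintro rfl
      have : (Q0 : Subgroup G) = ⊤ := top_le_iff.1 hU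
      rw [this, Subgroup.card_top] at hQ0
      exact Z4_not_two_pow h hQ0
    have hN := nn h U hU1 hU2
    have hUp : IsPGroup 2 U := Q0.2.to_le hU
    obtain ⟨m, hm⟩ := hUp.exists_card_eq
    have hm0 : m ≠ 0 := by
      rintro rfl
      rw [pow_zero] at hm
      exact hU1 (Subgroup.card_eq_one.1 hm)
    have h2N : 2 ∣ Nat.card (Nz U) := by
      have d1 : Nat.card U ∣ Nat.card (Nz U) := Subgroup.card_dvd_of_le Subgroup.le_normalizer
      rw [hm] at d1
      exact dvd_trans (dvd_pow_self 2 hm0) d1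
    obtain ⟨i, j, hij⟩ := h.E (Nz U) hN h2N
    have hgo : orderOf g ∣ Nat.card (Nz U) := by
      have := orderOf_dvd_natCard (⟨g, hgN⟩ : Nz U)
      rwa [Subgroup.orderOf_mk] at this
    rw [hij] at hgo
    have hgo' : orderOf g ∣ p ^ j := (Nat.Coprime.pow_right i hg2).dvd_of_dvd_mul_left hgo
    obtain ⟨j', _, hj'⟩ := (Nat.dvd_prime_pow h.pp).1 hgo'
    have hPE : PE p g := ⟨j', hj'⟩
    have hbig : p < Nat.card U := by
      by_contra hle
      push Not at hle
      apply hgC
      rw [Subgroup.mem_centralizer_iff]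
      intro x hx
      exact (small h.pp U hle g hgN hPE x hx).symm
    have hUQ : U = (Q0 : Subgroup G) := by
      apply Subgroup.eq_of_le_of_card_ge hU
      rw [hQ0]
      have := h.hpa
      omega
    subst hUQ
    refine ⟨Q0, g, hgN, hPE, ?_⟩
    rw [Subgroup.mem_centralizer_iff] at hgC
    push Not at hgC
    obtain ⟨u, hu, hne⟩ := hgC
    exact ⟨u, hu, fun e => hne e.symm⟩

end Cfsg.Agent.Lib.Helper59.TP
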