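import Cfsg.Agent.Lib.Helper59.TP.Base

set_option autoImplicit false

namespace Cfsg.Agent.Lib.Helper59.TP

open Cfsg.Agent.Lib.Helper59.CY

variable {G : Type*} [Group G] [Finite G] {p a : ℕ}

/-- Z5 -/
theorem trans1 (pp : p.Prime) (Q : Subgroup G) (hQ : Nat.card Q = p + 1) (x : G) (hx : x ∈ Nz Q)
    (hxp : PE p x) (hne : ∃ u ∈ Q, x * u ≠ u * x) :
    ∀ u ∈ Q, u ≠ 1 → ∀ v ∈ Q, v ≠ 1 → ∃ i : ℕ, x ^ i * u * (x ^ i)⁻¹ = v := by
  classical
  obtain ⟨u₀, hu₀, hmove⟩ := hne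
  obtain ⟨k, hk⟩ := hxp
  have hfin : Finite (ConjAct G) := (inferInstance : Finite G)
  let X : ConjAct G := ConjAct.toConjAct x
  let Z : Subgroup (ConjAct G) := Subgroup.zpowers X
  have hsm : ∀ (z : Z) (g : G), z • g = ConjAct.ofConjAct z.1 * g * (ConjAct.ofConjAct z.1)⁻¹ :=
    fun z g => rfl
  have hZpow : ∀ z : Z, ∃ i : ℕ, ConjAct.ofConjAct z.1 = x ^ i := by
    intro z
    have h1 : z.1 ∈ Submonoid.powers X := mem_powers_iff_mem_zpowers.2 z.2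
    obtain ⟨i, hi⟩ := h1
    refine ⟨i, ?_⟩
    rw [← hi, map_pow]
    rfl
  have hu₀1 : u₀ ≠ 1 := by
    rintro rfl
    exact hmove (by simp)
  have hcardZ : Nat.card Z = p ^ k := by
    rw [Nat.card_zpowers, ← hk]
    exact MulEquiv.orderOf_eq ConjAct.toConjAct x
  have hpowN : ∀ i : ℕ, x ^ i ∈ Nz Q := fun i => (Nz Q).pow_mem hx i
  have hsub : MulAction.orbit Z u₀ ⊆ ((Q : Set G) \ {1}) := by
    rintro _ ⟨z, rfl⟩
    obtain ⟨i, hi⟩ := hZpow z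
    change z • u₀ ∈ _
    rw [hsm, hi]
    refine ⟨(Subgroup.mem_normalizer_iff.1 (hpowN i) u₀).1 hu₀, ?_⟩
    intro h1
    apply hu₀1
    have h2 : x ^ i * u₀ * (x ^ i)⁻¹ = 1 := h1
    calc u₀ = (x ^ i)⁻¹ * (x ^ i * u₀ * (x ^ i)⁻¹) * x ^ i := by group
      _ = 1 := by rw [h2]; group
  have hdvd : (MulAction.orbit Z u₀).ncard ∣ p ^ k := by
    rw [← MulAction.index_stabilizer, ← hcardZ]
    exact Subgroup.index_dvd_card _
  obtain ⟨j, _, hj⟩ := (Nat.dvd_prime_pow pp).1 hdvd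
  have hj0 : j ≠ 0 := by
    rintro rfl
    rw [pow_zero, Set.ncard_eq_one] at hj
    obtain ⟨c, hc⟩ := hj
    have m1 : u₀ ∈ MulAction.orbit Z u₀ := MulAction.mem_orbit_self _
    have m2 : (⟨X, Subgroup.mem_zpowers X⟩ : Z) • u₀ ∈ MulAction.orbit Z u₀ :=
      MulAction.mem_orbit _ _
    rw [hc, Set.mem_singleton_iff] at m1 m2
    rw [hsm] at m2
    have m3 : x * u₀ * x⁻¹ = u₀ := m2.trans m1.symm
    apply hmove
    calc x * u₀ = (x * u₀ * x⁻¹) * x := by group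
      _ = u₀ * x := by rw [m3]
  have hple : p ≤ (MulAction.orbit Z u₀).ncard := by
    rw [hj]
    exact Nat.le_self_pow hj0 p
  have hQc : ((Q : Set G) \ {1}).ncard = p := by
    rw [Set.ncard_sdiff_singleton_of_mem Q.one_mem]
    have : (Q : Set G).ncard = Nat.card Q := (Nat.card_coe_set_eq _).symm
    rw [this, hQ]
    rfl
  have heq : MulAction.orbit Z u₀ = ((Q : Set G) \ {1}) :=
    Set.eq_of_subset_of_ncard_le hsub (by rw [hQc]; exact hple) (Set.toFinite _)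
  intro u hu hu1 v hv hv1
  have mu : u ∈ MulAction.orbit Z u₀ := by rw [heq]; exact ⟨hu, hu1⟩
  have mv : v ∈ MulAction.orbit Z u₀ := by rw [heq]; exact ⟨hv, hv1⟩
  rw [← MulAction.orbit_eq_iff.2 mu] at mv
  obtain ⟨z, hz⟩ := mv
  obtain ⟨i, hi⟩ := hZpow z
  refine ⟨i, ?_⟩
  rw [← hi]
  exact hz

end Cfsg.Agent.Lib.Helper59.TP
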