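import Cfsg.Agent.Lib.Helper59.TP.Base

set_option autoImplicit false

namespace Cfsg.Agent.Lib.Helper59.TP

open Cfsg.Agent.Lib.Helper59.CY

universe u

variable {G : Type*} [Group G] [Finite G] {p a : ℕ}

/-- Z7 -/
theorem el (Q : Subgroup G) (h2 : 2 ∣ Nat.card Q) (x : G)
    (htr : ∀ u ∈ Q, u ≠ 1 → ∀ v ∈ Q, v ≠ 1 → ∃ i : ℕ, x ^ i * u * (x ^ i)⁻¹ = v) :
    ∀ u ∈ Q, u * u = 1 := by
  obtain ⟨e, he⟩ := exists_prime_orderOf_dvd_card' (G := Q) 2 h2
  have he1 : (e : G) ≠ 1 := by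
    intro h
    have h3 : e = 1 := Subtype.ext h
    rw [h3, orderOf_one] at he
    omega
  have he2 : (e : G) * (e : G) = 1 := by
    have h3 : e ^ 2 = 1 := by rw [← he]; exact pow_orderOf_eq_one e
    have h4 := congrArg Subtype.val h3
    rw [sq] at h4
    exact h4
  intro u hu
  by_cases hu1 : u = 1
  · rw [hu1, one_mul]
  · obtain ⟨i, hi⟩ := htr e e.2 he1 u hu hu1
    rw [← hi]
    generalize x ^ i = y
    calc y * (e : G) * y⁻¹ * (y * (e : G) * y⁻¹) = y * ((e : G) * (e : G)) * y⁻¹ := by group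
      _ = 1 := by rw [he2, mul_one, mul_inv_cancel]

end Cfsg.Agent.Lib.Helper59.TP
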