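import Cfsg.Agent.Lib.Helper59.TP.Base

set_option autoImplicit false

namespace Cfsg.Agent.Lib.Helper59.TP

open Cfsg.Agent.Lib.Helper59.CY

universe u

variable {G : Type*} [Group G] [Finite G] {p a : ℕ}

theorem Z8_mem_smul (g : G) (Q₀ : Sylow 2 G) (u : G) :
    u ∈ ((g • Q₀ : Sylow 2 G) : Subgroup G) ↔ g⁻¹ * u * g ∈ (Q₀ : Subgroup G) := by
  rw [Sylow.coe_subgroup_smul, Subgroup.mem_pointwise_smul_iff_inv_smul_mem, MulAut.smul_def,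
    ← map_inv, MulAut.conj_apply, inv_inv]

theorem Z8_exists (s : G) (hs : orderOf s = 2) : ∃ Q : Sylow 2 G, s ∈ (Q : Subgroup G) := by
  have h1 : IsPGroup 2 (Subgroup.zpowers s) := by
    apply IsPGroup.of_card (n := 1)
    rw [Nat.card_zpowers, hs, pow_one]
  obtain ⟨Q, hQ⟩ := h1.exists_le_sylow
  exact ⟨Q, hQ (Subgroup.mem_zpowers s)⟩

/-- Z8 -/
theorem cj (htr : ∀ Q : Sylow 2 G, ∃ x ∈ Nz (Q : Subgroup G), PE p x ∧
      ∀ u ∈ (Q : Subgroup G), u ≠ 1 → ∀ v ∈ (Q : Subgroup G), v ≠ 1 → ∃ i : ℕ, x ^ i * u * (x ^ i)⁻¹ = v)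
    (s t : G) (hs : orderOf s = 2) (ht : orderOf t = 2) : ∃ g : G, g * s * g⁻¹ = t := by
  obtain ⟨Q1, hs1⟩ := Z8_exists s hs
  obtain ⟨Q2, ht2⟩ := Z8_exists t ht
  obtain ⟨g, rfl⟩ := MulAction.exists_smul_eq G Q1 Q2
  obtain ⟨x, -, -, hx⟩ := htr (g • Q1)
  have hs' : g * s * g⁻¹ ∈ ((g • Q1 : Sylow 2 G) : Subgroup G) := by
    rw [Z8_mem_smul]
    have h2 : g⁻¹ * (g * s * g⁻¹) * g = s := by group
    rw [h2]
    exact hs1
  have hs1' : g * s * g⁻¹ ≠ 1 := by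
    intro h3
    have h4 : s = 1 := by
      calc s = g⁻¹ * (g * s * g⁻¹) * g := by group
        _ = 1 := by rw [h3, mul_one, inv_mul_cancel]
    rw [h4, orderOf_one] at hs
    omega
  have ht1 : t ≠ 1 := by
    intro h4
    rw [h4, orderOf_one] at ht
    omega
  obtain ⟨i, hi⟩ := hx _ hs' hs1' t ht2 ht1
  refine ⟨x ^ i * g, ?_⟩
  rw [← hi]
  group

end Cfsg.Agent.Lib.Helper59.TP
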