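import Cfsg.Agent.Lib.Helper59.TP.Base
import Cfsg.Agent.Lib.Helper59.CY.G1

set_option autoImplicit false

namespace Cfsg.Agent.Lib.Helper59.TP

open Cfsg.Agent.Lib.Helper59.CY

variable {G : Type*} [Group G] [Finite G] {p a : ℕ}

/-- a `p`-element of `N(Q)`, `|Q| = p + 1`, fixing a nontrivial element of `Q`, centralizes `Q` -/
theorem Z9_ppart (pp : p.Prime) (Q : Subgroup G) (hQ : Nat.card Q = p + 1) (x : G)
    (hx : x ∈ Nz Q) (j : ℕ) (hxp : x ^ p ^ j = 1) (t : G) (ht : t ∈ Q) (ht1 : t ≠ 1)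
    (hxt : x * t = t * x) : ∀ u ∈ Q, x * u = u * x := by
  classical
  haveI : Fact p.Prime := ⟨pp⟩
  haveI : Fintype Q := Fintype.ofFinite Q
  have hmem : ∀ u ∈ Q, x * u * x⁻¹ ∈ Q := fun u hu =>
    (Subgroup.mem_normalizer_iff.1 hx u).1 hu
  let f : Function.End Q := fun u => ⟨x * u.1 * x⁻¹, hmem u.1 u.2⟩
  have hpow : ∀ k : ℕ, ∀ u : Q, ((f ^ k) u : G) = x ^ k * u.1 * (x ^ k)⁻¹ := by
    intro k
    induction k with
    | zero => intro u; simp only [pow_zero, one_mul, inv_one, mul_one]; rfl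
    | succ k ih =>
      intro u
      rw [pow_succ']
      show x * ((f ^ k) u : G) * x⁻¹ = _
      rw [ih u, pow_succ']
      group
  have hf : f ^ p ^ j = 1 := by
    funext u
    apply Subtype.ext
    rw [hpow, hxp]
    simp only [one_mul, inv_one, mul_one]
    rfl
  have hmod := Equiv.Perm.card_fixedPoints_modEq (f := f) (p := p) (n := j) hf
  rw [← Nat.card_eq_fintype_card, hQ] at hmod
  intro u hu
  by_contra hne
  have hlt : Fintype.card (Function.fixedPoints f) < Fintype.card Q := by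
    apply Fintype.card_subtype_lt (x := (⟨u, hu⟩ : Q))
    intro hfix
    apply hne
    have := congrArg Subtype.val hfix
    have h2 : x * u * x⁻¹ = u := this
    calc x * u = x * u * x⁻¹ * x := by group
      _ = u * x := by rw [h2]
  rw [← Nat.card_eq_fintype_card (α := Q), hQ] at hlt
  have h1 : 1 < Fintype.card (Function.fixedPoints f) := by
    rw [Fintype.one_lt_card_iff]
    refine ⟨⟨(1 : Q), ?_⟩, ⟨(⟨t, ht⟩ : Q), ?_⟩, ?_⟩
    · apply Subtype.ext
      show x * 1 * x⁻¹ = 1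
      group
    · apply Subtype.ext
      show x * t * x⁻¹ = t
      rw [hxt]; group
    · intro h
      apply ht1
      have h' := congrArg Subtype.val (congrArg Subtype.val h)
      exact h'.symm
  set c := Fintype.card (Function.fixedPoints f) with hc
  have h3 : (p + 1) % p = c % p := hmod
  have hp2 := pp.two_le
  rw [Nat.add_mod_left, Nat.mod_eq_of_lt (by omega : 1 < p)] at h3
  rcases Nat.lt_or_ge c p with h4 | h4
  · rw [Nat.mod_eq_of_lt h4] at h3; omega
  · have : c = p := by omega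
    rw [this, Nat.mod_self] at h3; omega

/-- Z9 -/
theorem fix (h : SB p a G) (hel : ∀ Q : Sylow 2 G, ∀ u ∈ (Q : Subgroup G), u * u = 1)
    (Q : Sylow 2 G) (g : G) (hg : g ∈ Nz (Q : Subgroup G))
    (hfix : ∃ t ∈ (Q : Subgroup G), t ≠ 1 ∧ g * t = t * g) : ∀ u ∈ (Q : Subgroup G), g * u = u * g := by
  classical
  haveI : Fact (Nat.Prime 2) := ⟨Nat.prime_two⟩
  obtain ⟨t, ht, ht1, hgt⟩ := hfix
  have hpp := h.pp
  have ha := h.ha
  have h4 : 4 ≤ 2 ^ a := by
    calc 4 = 2 ^ 2 := by norm_num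
      _ ≤ 2 ^ a := Nat.pow_le_pow_right (by norm_num) ha
  have hcQ : Nat.card (Q : Subgroup G) = p + 1 := by
    rw [h.card2 Q, h.hpa]; omega
  -- `Q` is abelian
  have hab : ∀ u ∈ (Q : Subgroup G), ∀ v ∈ (Q : Subgroup G), u * v = v * u := by
    intro u hu v hv
    have e1 := hel Q u hu
    have e2 := hel Q v hv
    have e3 := hel Q (u * v) (mul_mem hu hv)
    have iu : u⁻¹ = u := inv_eq_of_mul_eq_one_left e1
    have iv : v⁻¹ = v := inv_eq_of_mul_eq_one_left e2
    have iuv : (u * v)⁻¹ = u * v := inv_eq_of_mul_eq_one_left e3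
    rw [← iuv, mul_inv_rev, iu, iv]
  -- `N(Q)` is proper
  have hodd : ¬ 2 ∣ p := by
    rw [h.hpa]
    obtain ⟨b, rfl⟩ : ∃ b, a = b + 1 := ⟨a - 1, by omega⟩
    rw [pow_succ]; omega
  have hNtop : Nz (Q : Subgroup G) ≠ ⊤ := by
    intro htop
    have hn : (Q : Subgroup G).Normal := Subgroup.normalizer_eq_top_iff.1 htop
    rcases h.simp _ hn with hb | hT
    · rw [hb] at hcQ
      simp at hcQ
      omega
    · have hG : Nat.card G = 2 ^ a := by
        rw [← h.card2 Q, hT, Subgroup.card_top]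
      have hd := h.pdvd
      rw [hG] at hd
      have := (Nat.prime_dvd_prime_iff_eq hpp Nat.prime_two).1 (hpp.dvd_of_dvd_pow hd)
      apply hodd
      rw [this]
  have h2N : 2 ∣ Nat.card (Nz (Q : Subgroup G)) := by
    have h1 : Nat.card (Q : Subgroup G) ∣ Nat.card (Nz (Q : Subgroup G)) :=
      Subgroup.card_dvd_of_le Subgroup.le_normalizer
    refine dvd_trans ?_ h1
    rw [h.card2 Q]
    exact dvd_pow_self 2 (by omega)
  obtain ⟨i, j, hij⟩ := h.E _ hNtop h2N
  have hgN : g ^ (2 ^ i * p ^ j) = 1 := by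
    have := pow_card_eq_one' (x := (⟨g, hg⟩ : Nz (Q : Subgroup G)))
    rw [hij] at this
    exact congrArg Subtype.val this
  -- the `2`-part
  have hA : g ^ p ^ j ∈ Cz (Q : Subgroup G) := by
    have hm : g ^ p ^ j ∈ (Q : Subgroup G) := by
      apply pin Q (pow_mem hg _)
      have hd : orderOf (g ^ p ^ j) ∣ 2 ^ i := by
        apply orderOf_dvd_of_pow_eq_one
        rw [← pow_mul, mul_comm]; exact hgN
      obtain ⟨k, _, hk⟩ := (Nat.dvd_prime_pow Nat.prime_two).1 hd
      exact ⟨k, hk⟩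
    rw [Subgroup.mem_centralizer_iff]
    intro u hu
    exact hab u hu _ hm
  -- the `p`-part
  have hB : g ^ 2 ^ i ∈ Cz (Q : Subgroup G) := by
    rw [Subgroup.mem_centralizer_iff]
    intro u hu
    refine (Z9_ppart hpp (Q : Subgroup G) hcQ (g ^ 2 ^ i) (pow_mem hg _) j ?_ t ht ht1 ?_ u hu).symm
    · rw [← pow_mul]; exact hgN
    · exact ((Commute.pow_left (show Commute g t from hgt) _)).eq
  have hcop : IsCoprime ((p ^ j : ℕ) : ℤ) ((2 ^ i : ℕ) : ℤ) := by
    rw [Nat.isCoprime_iff_coprime]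
    apply Nat.Coprime.pow
    exact ((Nat.coprime_primes hpp Nat.prime_two).2 (fun e => hodd (by rw [e])))
  obtain ⟨r, s, hrs⟩ := hcop
  have hgC : g ∈ Cz (Q : Subgroup G) := by
    have e : g = (g ^ p ^ j) ^ r * (g ^ 2 ^ i) ^ s := by
      rw [← zpow_natCast g, ← zpow_natCast g, ← zpow_mul, ← zpow_mul, ← zpow_add,
        mul_comm _ r, mul_comm _ s, hrs, zpow_one]
    rw [e]
    exact mul_mem (zpow_mem hA _) (zpow_mem hB _)
  intro u hu
  exact ((Subgroup.mem_centralizer_iff.1 hgC) u hu).symm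

end Cfsg.Agent.Lib.Helper59.TP
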