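import Cfsg.Agent.Lib.Helper59.TP.A0
import Cfsg.Agent.Lib.Helper59.TP.A1
import Cfsg.Agent.Lib.Helper59.TP.A2
import Cfsg.Agent.Lib.Helper59.TP.A3
import Cfsg.Agent.Lib.Helper59.TP.A4
import Cfsg.Agent.Lib.Helper59.TP.A5
import Cfsg.Agent.Lib.Helper59.TP.A6
import Cfsg.Agent.Lib.Helper59.TP.A7
import Cfsg.Agent.Lib.Helper59.TP.B1
import Cfsg.Agent.Lib.Helper59.TP.B10
import Cfsg.Agent.Lib.Helper59.TP.B11
import Cfsg.Agent.Lib.Helper59.TP.B2
import Cfsg.Agent.Lib.Helper59.TP.B3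
import Cfsg.Agent.Lib.Helper59.TP.B4
import Cfsg.Agent.Lib.Helper59.TP.B5
import Cfsg.Agent.Lib.Helper59.TP.B6
import Cfsg.Agent.Lib.Helper59.TP.B7
import Cfsg.Agent.Lib.Helper59.TP.B8
import Cfsg.Agent.Lib.Helper59.TP.B9
import Cfsg.Agent.Lib.Helper59.TP.C1
import Cfsg.Agent.Lib.Helper59.TP.C2
import Cfsg.Agent.Lib.Helper59.TP.C3
import Cfsg.Agent.Lib.Helper59.TP.C4
import Cfsg.Agent.Lib.Helper59.TP.C5
import Cfsg.Agent.Lib.Helper59.TP.D1
import Cfsg.Agent.Lib.Helper59.TP.D2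
import Cfsg.Agent.Lib.Helper59.TP.D3
import Cfsg.Agent.Lib.Helper59.TP.D4
import Cfsg.Agent.Lib.Helper59.TP.T1
import Cfsg.Agent.Lib.Helper59.TP.T2
import Cfsg.Agent.Lib.Helper59.TP.T3
import Cfsg.Agent.Lib.Helper59.TP.T4
import Cfsg.Agent.Lib.Helper59.TP.T5
import Cfsg.Agent.Lib.Helper59.TP.T6
import Cfsg.Agent.Lib.Helper59.TP.T7
import Cfsg.Agent.Lib.Helper59.TP.W1
import Cfsg.Agent.Lib.Helper59.TP.W2
import Cfsg.Agent.Lib.Helper59.TP.W3
import Cfsg.Agent.Lib.Helper59.TP.W4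
import Cfsg.Agent.Lib.Helper59.TP.W5
import Cfsg.Agent.Lib.Helper59.TP.W6
import Cfsg.Agent.Lib.Helper59.TP.W7
import Cfsg.Agent.Lib.Helper59.TP.W8
import Cfsg.Agent.Lib.Helper59.TP.Z1
import Cfsg.Agent.Lib.Helper59.TP.Z10
import Cfsg.Agent.Lib.Helper59.TP.Z11
import Cfsg.Agent.Lib.Helper59.TP.Z12
import Cfsg.Agent.Lib.Helper59.TP.Z2
import Cfsg.Agent.Lib.Helper59.TP.Z3
import Cfsg.Agent.Lib.Helper59.TP.Z4
import Cfsg.Agent.Lib.Helper59.TP.Z5
import Cfsg.Agent.Lib.Helper59.TP.Z6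
import Cfsg.Agent.Lib.Helper59.TP.Z7
import Cfsg.Agent.Lib.Helper59.TP.Z8
import Cfsg.Agent.Lib.Helper59.TP.Z9
import Cfsg.Agent.S3282

set_option autoImplicit false

namespace Cfsg.Agent.Lib.Helper59.TP

open Cfsg.Agent.Lib.Helper59.CY

universe u

section
variable {G : Type*} [Group G] [Finite G] {p a : ℕ}

theorem gf_of_sb (h : SB p a G) : GF p a G := by
  obtain ⟨Q₀, x₀, hx₀, hxp, hne⟩ := exQ h
  have hp1 : 2 ^ a = p + 1 := by
    have h1 := h.hpa
    have h2 : 1 ≤ 2 ^ a := Nat.one_le_two_pow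
    omega
  have htr0 := trans1 h.pp (Q₀ : Subgroup G) (by rw [h.card2, hp1]) x₀ hx₀ hxp hne
  have htr := tr_all h Q₀ x₀ hx₀ hxp htr0
  have hel : ∀ Q : Sylow 2 G, ∀ u ∈ (Q : Subgroup G), u * u = 1 := by
    intro Q
    obtain ⟨x, -, -, hx⟩ := htr Q
    refine el (Q : Subgroup G) ?_ x hx
    rw [h.card2]
    exact dvd_pow_self 2 (by have := h.ha; omega)
  have hfix : ∀ Q : Sylow 2 G, ∀ g ∈ Nz (Q : Subgroup G),
      (∃ t ∈ (Q : Subgroup G), t ≠ 1 ∧ g * t = t * g) → ∀ u ∈ (Q : Subgroup G), g * u = u * g :=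
    fun Q g hg hf => fix h hel Q g hg hf
  exact
    { sb := h
      zc := zc h
      nn := nn h
      small := fun U hU g hg hgp => small h.pp U hU g hg hgp
      el := hel
      tr := htr
      cj := cj htr
      fix := hfix
      yp := fun t ht => (yt_str h hel hfix t ht).1
      yc := fun t ht => (yt_str h hel hfix t ht).2
      tool := fun L P => tool h L P
      prod := prod h }

theorem main_ex_ne_one (h : GF p a G) (Q : Sylow 2 G) : ∃ t ∈ (Q : Subgroup G), t ≠ 1 := by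
  by_contra hcon
  push Not at hcon
  have hb : (Q : Subgroup G) = ⊥ := (Subgroup.eq_bot_iff_forall _).mpr hcon
  have h1 := h.sb.card2 Q
  rw [hb, Subgroup.card_bot] at h1
  have h2 : 2 ^ 2 ≤ 2 ^ a := Nat.pow_le_pow_right (by norm_num) h.sb.ha
  omega

theorem main_order_two (h : GF p a G) (Q : Sylow 2 G) (t : G) (ht : t ∈ (Q : Subgroup G)) (ht1 : t ≠ 1) :
    orderOf t = 2 :=
  orderOf_eq_prime (by rw [sq]; exact h.el Q t ht) ht1

theorem cq (h : GF p a G) : ∀ Q : Sylow 2 G, ∀ z ∈ Cz (Q : Subgroup G), PE p z → z = 1 := by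
  intro Q z hz hzp
  by_contra hz1
  have hall := hz_all h ⟨Q, z, hz, hz1, hzp⟩
  have hA2 : ∀ Q : Sylow 2 G, ∀ z ∈ Cz (Q : Subgroup G), z ≠ 1 → PE p z → Ce z ≤ Nz (Q : Subgroup G) :=
    fun Q z hz hz1 hzp => cz_le_nq h Q z hz hz1 hzp
  have hA3 : ∀ Q : Sylow 2 G, ∀ t ∈ (Q : Subgroup G), t ≠ 1 → Ce t ≤ Cz (Q : Subgroup G) :=
    fun Q t ht ht1 => ct_le_cq h hA2 Q (hall Q) t ht ht1
  obtain ⟨t, ht, ht1⟩ := main_ex_ne_one h Q
  obtain ⟨s, hs, hsQ⟩ := ex_inv_out h Q
  obtain ⟨hwp, hw1, hodd⟩ := w_props h hA2 hA3 Q t s ht ht1 hs hsQ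
  have ht2 : orderOf t = 2 := main_order_two h Q t ht ht1
  have htt : t * t = 1 := h.el Q t ht
  have hss : s * s = 1 := by
    have := pow_orderOf_eq_one s
    rwa [hs, sq] at this
  have hti : t⁻¹ = t := inv_eq_of_mul_eq_one_left htt
  have hsi : s⁻¹ = s := inv_eq_of_mul_eq_one_left hss
  have hinvw : t * (t * s) * t⁻¹ = (t * s)⁻¹ := by
    rw [mul_inv_rev, hti, hsi, ← mul_assoc, htt, one_mul]
  obtain ⟨P, hP⟩ := ce_syl h (t * s) t hw1 hwp ht2 hinvw hodd
  have hinv := ex_inverted h hA2 hA3 Q t s ht ht1 hs hsQ P hP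
  exact a_final h hA2 Q z hz hz1 hzp P t ht2 hinv

theorem yne (h : GF p a G) (hY : ∀ t : G, orderOf t = 2 → Yt p t = ⊥) : False := by
  haveI := Fact.mk h.sb.pp
  have hB1 : ∀ s t : G, orderOf s = 2 → orderOf t = 2 → s * t ≠ t * s → PE p (t * s) :=
    fun s t hs ht hst => b_nc h hY s t hs ht hst
  have hB3 : ∀ (P : Sylow p G) (e : G), orderOf e = 2 → e ∈ Nz (P : Subgroup G) →
      ∀ y ∈ (P : Subgroup G), e * y * e⁻¹ = y⁻¹ := fun P e he heP => b_inv h hY P e he heP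
  have hB4 := b_ex h hY
  have hB5 : ∀ (P : Sylow p G) (y : G), y ∈ (P : Subgroup G) → y ≠ 1 → Ce y = (P : Subgroup G) :=
    fun P y hy hy1 => b_ce h hY P y hy hy1
  have hB6 := b_invs h hB3 hB4 hB5
  have hB7 := b_cardN h hB3 hB4 hB5
  let P₀ : Sylow p G := default
  have c1 := b_count1 h hY hB1 hB3 hB5 hB6 P₀
  have c2 := b_count2 h hY
  have c3 := b_cardI h hY
  have hcard : Nat.card (P₀ : Subgroup G) = p ^ (Nat.card G).factorization p := Sylow.card_eq_multiplicity P₀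
  have hpos : 0 < (Nat.card G).factorization p :=
    h.sb.pp.factorization_pos_of_dvd Nat.card_pos.ne' h.sb.pdvd
  obtain ⟨k, hk⟩ : ∃ k, (Nat.card G).factorization p = k + 1 := ⟨_, (Nat.succ_pred_eq_of_pos hpos).symm⟩
  have hn : Nat.card (Sylow p G) * (2 * Nat.card (P₀ : Subgroup G)) = Nat.card G := by
    rw [← hB7 P₀, Sylow.card_eq_index_normalizer P₀]
    exact Subgroup.index_mul_card _
  exact b_arith h.sb.pp h.sb.ha h.sb.hpa (Nat.card G) _ _ _ k (by rw [hcard, hk]) c3 hn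
    (c1.symm.trans c2) Nat.card_pos

theorem main_hpc (h : GF p a G) (P : Sylow p G) (t : G) (ht : orderOf t = 2)
    (hc : ∀ y ∈ (P : Subgroup G), t * y = y * t) (d : G) (hd : PE p d) :
    ∃ t' : G, orderOf t' = 2 ∧ t' * d = d * t' := by
  haveI := Fact.mk h.sb.pp
  obtain ⟨k, hk⟩ := hd
  have hz : IsPGroup p (Subgroup.zpowers d) := by
    apply IsPGroup.of_card (n := k)
    rw [Nat.card_zpowers, hk]
  obtain ⟨P', hP'⟩ := hz.exists_le_sylow
  obtain ⟨g, hg⟩ := MulAction.exists_smul_eq G P' P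
  have hdP : g * d * g⁻¹ ∈ (P : Subgroup G) := by
    rw [← hg, Sylow.coe_subgroup_smul]
    have : d ∈ (P' : Subgroup G) := hP' (Subgroup.mem_zpowers d)
    have h2 := Subgroup.smul_mem_pointwise_smul d (MulAut.conj g) (P' : Subgroup G) this
    simpa [MulAut.smul_def] using h2
  refine ⟨g⁻¹ * t * g, ?_, ?_⟩
  · have hsc : SemiconjBy g⁻¹ t (g⁻¹ * t * g) := by
      unfold SemiconjBy
      group
    rw [← hsc.orderOf_eq]
    exact ht
  · have h3 := hc _ hdP
    calc g⁻¹ * t * g * d = g⁻¹ * (t * (g * d * g⁻¹)) * g := by group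
      _ = g⁻¹ * ((g * d * g⁻¹) * t) * g := by rw [h3]
      _ = d * (g⁻¹ * t * g) := by group

theorem no_gf (h : GF p a G) : False := by
  haveI := Fact.mk h.sb.pp
  have hcq := cq h
  by_cases hex : ∃ t : G, orderOf t = 2 ∧ Yt p t = ⊥
  · obtain ⟨t0, ht0, hY0⟩ := hex
    apply yne h
    intro t ht
    have h1 := yt_card h t t0 ht ht0
    rw [hY0, Subgroup.card_bot] at h1
    exact Subgroup.eq_bot_of_card_eq _ h1
  · push Not at hex
    have hkl : ∀ (P P' : Sylow p G) (c : G), c ≠ 1 → c ∈ (P : Subgroup G) → c ∈ (P' : Subgroup G) →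
        2 ∣ Nat.card (Ce c) → P = P' := fun P P' c h1 h2 h3 h4 => kl h hcq P P' c h1 h2 h3 h4
    let Q : Sylow 2 G := default
    obtain ⟨t, ht, ht1⟩ := main_ex_ne_one h Q
    have ht2 : orderOf t = 2 := main_order_two h Q t ht ht1
    obtain ⟨P, hP⟩ := (h.yp t ht2).exists_le_sylow
    have hQP := q_le_n h hcq hex Q t ht ht1 P hP
    have hinj : ∀ v ∈ (Q : Subgroup G), v ≠ 1 → Yt p v ≤ (P : Subgroup G) → v = t :=
      fun v hv hv1 hPv => c_inj h hex hkl Q P hQP t v ht ht1 hv hv1 hP hPv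
    have hinv : ∀ v ∈ (Q : Subgroup G), v ≠ 1 → v ≠ t → ∀ y ∈ (P : Subgroup G), v * y * v⁻¹ = y⁻¹ :=
      fun v hv hv1 hvt => c_inverts h hkl Q P hQP t hinj v hv hv1 hvt
    rcases Nat.lt_or_ge 2 a with ha3 | ha2
    · exact c_a3 h ha3 Q P t hinv
    · have ha : a = 2 := le_antisymm ha2 h.sb.ha
      subst ha
      obtain ⟨hc, hC, hN⟩ := d_str h Q P t ht ht1 hQP hinv
      obtain ⟨s, hs, hs1, hst⟩ : ∃ s ∈ (Q : Subgroup G), s ≠ 1 ∧ s ≠ t := by
        by_contra hcon
        push Not at hcon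
        have hsub : ((Q : Subgroup G) : Set G) ⊆ ({1, t} : Set G) := by
          intro v hv
          by_cases hv1 : v = 1
          · simp [hv1]
          · simp [hcon v hv hv1]
        have hle : Nat.card (Q : Subgroup G) ≤ 2 := by
          have h1 : Nat.card ((Q : Subgroup G) : Set G) ≤ Nat.card ({1, t} : Set G) :=
            Nat.card_mono (Set.toFinite _) hsub
          have h2 : Nat.card ({1, t} : Set G) ≤ 2 := by
            rw [Nat.card_coe_set_eq]
            exact (Set.ncard_insert_le 1 {t}).trans (by rw [Set.ncard_singleton])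
          exact h1.trans h2
        have := h.sb.card2 Q
        omega
      have hs2 : orderOf s = 2 := main_order_two h Q s hs hs1
      obtain ⟨k1, k2, k3, k4, k5, k6⟩ := d_hyp h Q P t s ht ht1 hs hs1 hst hc hC (hinv s hs hs1 hst)
      have hti := d_ti h hkl P t ht2 hc (hN.trans hC.symm)
      have htK : t ∈ (P : Subgroup G) ⊔ Subgroup.zpowers t :=
        (le_sup_right : Subgroup.zpowers t ≤ _) (Subgroup.mem_zpowers t)
      have hsC : s ∈ Ce t := by
        rw [hC]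
        exact (le_sup_right : (Q : Subgroup G) ≤ _) hs
      have hconj : ∀ x y : G, orderOf x = 2 → orderOf y = 2 → IsConj x y := by
        intro x y hx hy
        obtain ⟨g, hg⟩ := h.cj x y hx hy
        exact isConj_iff.mpr ⟨g, hg⟩
      obtain ⟨Q', D, h1, h2, h3, h4, h5, h6, h7⟩ := Cfsg.Agent.S3282.result t ht2
        ((P : Subgroup G) ⊔ Subgroup.zpowers t) k1 k2 htK s hs2 hsC k3 k4 k5 k6 hti hconj
      exact d_final h (main_hpc h P t ht2 hc) Q' D h1 h2 h3 h4 h5 h6 h7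

theorem no_sb (h : SB p a G) : False := no_gf (gf_of_sb h)

end

theorem main_ind (p q : ℕ) : ∀ n : ℕ, ∀ (G : Type u) [Group G] [Finite G], Nat.card G = n →
    Hyp p q G → Concl p q G := by
  intro n
  induction n using Nat.strong_induction_on with
  | _ n ih =>
  intro G _ _ hn h
  rcases h.hlarge with hl | ⟨hpa, hab⟩
  · exact w_caseA h (fun U hU g hg hgq => w_cent h hl U hU g hg hgq)
  · obtain ⟨rfl, ha⟩ := w_q2 h.hp h.hq h.hp2 hpa
    have IH : ∀ H : Subgroup G, H ≠ ⊤ → Hyp p 2 H → Concl p 2 H := by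
      intro H hH hh
      refine ih (Nat.card H) ?_ H rfl hh
      rw [← hn]
      have hle : Nat.card H ≤ Nat.card G := Subgroup.card_le_card_group H
      rcases hle.lt_or_eq with hlt | heq
      · exact hlt
      · exact absurd (Subgroup.eq_top_of_card_eq H heq) hH
    have E : ∀ H : Subgroup G, H ≠ ⊤ → 2 ∣ Nat.card H → TwoP p H :=
      fun H hH h2 => w_E h hpa hab IH H hH h2
    intro r hr hrG
    by_contra hcon
    push Not at hcon
    obtain ⟨hrp, hr2⟩ := hcon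
    apply no_sb (p := p) (a := (Nat.card G).factorization 2) (G := G)
    refine
      { pp := h.hp
        ha := ha
        hpa := hpa
        card2 := fun Q => Sylow.card_eq_multiplicity Q
        pdvd := h.hpG
        E := E
        simp := ?_
        pab := ?_ }
    · intro M hM
      by_contra hcon
      push Not at hcon
      obtain ⟨hMb, hMt⟩ := hcon
      have hodd := w_even h.hp h.hp2 h.hpG E r hr hrG hrp hr2 M hM hMt
      have hMp := w_odd h.hp h.hp2 h.hpG h.hqG E r hr hrG hrp hr2 M hM hMt hodd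
      have hpq := w_sz h.hp h.hp2 h.hqG E r hr hrG hrp hr2 M hMb hMp
      have hq := w_quot h hpa hab E M hMp hpq
      have hcardeq : Nat.card G = Nat.card (G ⧸ M) * Nat.card M := Subgroup.card_eq_card_quotient_mul_card_subgroup M
      have hM1 : 1 < Nat.card M := by
        rcases Nat.lt_or_ge 1 (Nat.card M) with h1 | h1
        · exact h1
        · exfalso
          have h0 : 0 < Nat.card M := Nat.card_pos
          exact hMb (Subgroup.eq_bot_of_card_eq M (by omega))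
      have hlt : Nat.card (G ⧸ M) < n := by
        rw [← hn, hcardeq]
        have h0 : 0 < Nat.card (G ⧸ M) := Nat.card_pos
        nlinarith
      have hc := ih (Nat.card (G ⧸ M)) hlt (G ⧸ M) rfl hq
      have hrq : r ∣ Nat.card (G ⧸ M) := by
        rw [hcardeq] at hrG
        rcases (Nat.Prime.dvd_mul hr).mp hrG with h1 | h1
        · exact h1
        · exfalso
          haveI := Fact.mk h.hp
          obtain ⟨k, hk⟩ := IsPGroup.iff_card.mp hMp
          rw [hk] at h1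
          exact hrp ((Nat.prime_dvd_prime_iff_eq hr h.hp).mp (hr.dvd_of_dvd_pow h1))
      rcases hc r hr hrq with h1 | h1
      · exact hrp h1
      · exact hr2 h1
    · intro P x hx y hy
      have := (hab P).is_comm.comm ⟨x, hx⟩ ⟨y, hy⟩
      exact congrArg Subtype.val this

end Cfsg.Agent.Lib.Helper59.TP
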