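import Cfsg.Agent.Lib.Helper59.TP.Base

/-!
# Farm TP (helper59, S4017), piece W4
-/

set_option autoImplicit false
set_option linter.unusedSectionVars false
set_option linter.unusedVariables false
set_option linter.style.haveILetI false

namespace Cfsg.Agent.Lib.Helper59.TP

open Cfsg.Agent.Lib.Helper59.CY

variable {G : Type*} [Group G] [Finite G] {p a : ℕ}

theorem W4_two_p (pp : p.Prime) (n : ℕ) (hn : n ≠ 0)
    (H : ∀ r : ℕ, r.Prime → r ∣ n → r = p ∨ r = 2) : ∃ i j : ℕ, n = 2 ^ i * p ^ j := by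
  have e1 := Nat.ordProj_mul_ordCompl_eq_self n 2
  have d1 : ¬ 2 ∣ ordCompl[2] n := Nat.not_dvd_ordCompl Nat.prime_two hn
  have hn1 : ordCompl[2] n ≠ 0 := by
    intro h0; rw [h0] at d1; exact d1 (dvd_zero _)
  have e2 := Nat.ordProj_mul_ordCompl_eq_self (ordCompl[2] n) p
  have d2 : ¬ p ∣ ordCompl[p] (ordCompl[2] n) := Nat.not_dvd_ordCompl pp hn1
  have hone : ordCompl[p] (ordCompl[2] n) = 1 := by
    by_contra hne
    obtain ⟨r, hr, hrd⟩ := Nat.exists_prime_and_dvd hne
    have hr1 : r ∣ ordCompl[2] n := hrd.trans (Dvd.intro_left _ e2)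
    have hr2 : r ∣ n := hr1.trans (Dvd.intro_left _ e1)
    rcases H r hr hr2 with rfl | rfl
    · exact d2 hrd
    · exact d1 hr1
  rw [hone, mul_one] at e2
  refine ⟨n.factorization 2, (ordCompl[2] n).factorization p, ?_⟩
  rw [e2, e1]

/-- W4 : hypothesis (E) from the induction hypothesis -/
theorem w_E (h : Hyp p 2 G) (hpa : p = 2 ^ (Nat.card G).factorization 2 - 1)
    (hab : ∀ P : Sylow p G, IsMulCommutative P)
    (IH : ∀ H : Subgroup G, H ≠ ⊤ → Hyp p 2 H → Concl p 2 H)
    (H : Subgroup G) (hH : H ≠ ⊤) (h2 : 2 ∣ Nat.card H) : TwoP p H := by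
  haveI : Fact p.Prime := ⟨h.hp⟩
  haveI : Fact (Nat.Prime 2) := ⟨Nat.prime_two⟩
  by_cases hpg : IsPGroup 2 H
  · obtain ⟨n, hn⟩ := IsPGroup.iff_card.1 hpg
    exact ⟨n, 0, by rw [hn, pow_zero, mul_one]⟩
  have hpH : p ∣ Nat.card H := h.hmix H hH hpg h2
  have hyp : Hyp p 2 H := by
    refine ⟨h.hp, h.hq, h.hpq, h.hp2, hpH, h2, ?_, ?_⟩
    · intro K hK hKp hK2
      have hcard : Nat.card (K.map H.subtype) = Nat.card K :=
        Subgroup.card_map_of_injective H.subtype_injective
      have hle : K.map H.subtype ≤ H := Subgroup.map_subtype_le K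
      have hne : K.map H.subtype ≠ ⊤ := by
        intro ht
        apply hH
        rw [ht] at hle
        exact top_le_iff.1 hle
      have hnp : ¬ IsPGroup 2 (K.map H.subtype) := by
        intro hh
        apply hKp
        obtain ⟨n, hn⟩ := IsPGroup.iff_card.1 hh
        exact IsPGroup.of_card (n := n) (by rw [← hcard, hn])
      have := h.hmix _ hne hnp (by rw [hcard]; exact hK2)
      rwa [hcard] at this
    · have hdvd : Nat.card H ∣ Nat.card G := Subgroup.card_subgroup_dvd_card H
      have hle : (Nat.card H).factorization 2 ≤ (Nat.card G).factorization 2 :=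
        (Nat.factorization_le_iff_dvd Nat.card_pos.ne' Nat.card_pos.ne').2 hdvd 2
      rcases lt_or_eq_of_le hle with hlt | heq
      · left
        have h1 : 2 ^ (Nat.card H).factorization 2 < 2 ^ (Nat.card G).factorization 2 :=
          Nat.pow_lt_pow_right (by norm_num) hlt
        have h3 : 0 < 2 ^ (Nat.card H).factorization 2 := by positivity
        omega
      · right
        refine ⟨by rw [heq]; exact hpa, ?_⟩
        intro P
        have hpP : IsPGroup p ((P : Subgroup H).map H.subtype) := P.2.map _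
        obtain ⟨P', hP'⟩ := hpP.exists_le_sylow
        refine ⟨⟨fun x y => ?_⟩⟩
        have hx : ((x : H) : G) ∈ (P' : Subgroup G) := hP' ⟨x.1, x.2, rfl⟩
        have hy : ((y : H) : G) ∈ (P' : Subgroup G) := hP' ⟨y.1, y.2, rfl⟩
        have := (hab P').is_comm.comm ⟨_, hx⟩ ⟨_, hy⟩
        have h3 : ((x : H) : G) * ((y : H) : G) = ((y : H) : G) * ((x : H) : G) :=
          congrArg Subtype.val this
        apply Subtype.ext
        apply Subtype.ext
        exact h3
  have hc := IH H hH hyp
  exact W4_two_p h.hp _ Nat.card_pos.ne' hc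

end Cfsg.Agent.Lib.Helper59.TP
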