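import Cfsg.Agent.Lib.Helper59.TP.Base

set_option autoImplicit false

namespace Cfsg.Agent.Lib.Helper59.TP

open Cfsg.Agent.Lib.Helper59.CY

universe u

variable {G : Type*} [Group G] [Finite G] {p a : ℕ}

theorem Z6_mem_smul (g : G) (Q₀ : Sylow 2 G) (u : G) :
    u ∈ ((g • Q₀ : Sylow 2 G) : Subgroup G) ↔ g⁻¹ * u * g ∈ (Q₀ : Subgroup G) := by
  rw [Sylow.coe_subgroup_smul, Subgroup.mem_pointwise_smul_iff_inv_smul_mem, MulAut.smul_def,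
    ← map_inv, MulAut.conj_apply, inv_inv]

/-- Z6 -/
theorem tr_all (h : SB p a G) (Q₀ : Sylow 2 G) (x₀ : G) (hx : x₀ ∈ Nz (Q₀ : Subgroup G)) (hxp : PE p x₀)
    (htr : ∀ u ∈ (Q₀ : Subgroup G), u ≠ 1 → ∀ v ∈ (Q₀ : Subgroup G), v ≠ 1 →
      ∃ i : ℕ, x₀ ^ i * u * (x₀ ^ i)⁻¹ = v) :
    ∀ Q : Sylow 2 G, ∃ x ∈ Nz (Q : Subgroup G), PE p x ∧
    ∀ u ∈ (Q : Subgroup G), u ≠ 1 → ∀ v ∈ (Q : Subgroup G), v ≠ 1 → ∃ i : ℕ, x ^ i * u * (x ^ i)⁻¹ = v := by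
  intro Q
  obtain ⟨g, rfl⟩ := MulAction.exists_smul_eq G Q₀ Q
  refine ⟨g * x₀ * g⁻¹, ?_, ?_, ?_⟩
  · rw [Subgroup.mem_normalizer_iff] at hx ⊢
    intro n
    change n ∈ ((g • Q₀ : Sylow 2 G) : Subgroup G) ↔ _ ∈ ((g • Q₀ : Sylow 2 G) : Subgroup G)
    rw [Z6_mem_smul, Z6_mem_smul]
    have h1 := hx (g⁻¹ * n * g)
    have h2 : g⁻¹ * (g * x₀ * g⁻¹ * n * (g * x₀ * g⁻¹)⁻¹) * g = x₀ * (g⁻¹ * n * g) * x₀⁻¹ := by
      group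
    rw [h2]
    exact h1
  · obtain ⟨k, hk⟩ := hxp
    refine ⟨k, ?_⟩
    rw [← hk, ← MulAut.conj_apply]
    exact MulEquiv.orderOf_eq (MulAut.conj g) x₀
  · intro u hu hu1 v hv hv1
    rw [Z6_mem_smul] at hu hv
    have hu1' : g⁻¹ * u * g ≠ 1 := by
      intro h3
      apply hu1
      calc u = g * (g⁻¹ * u * g) * g⁻¹ := by group
        _ = 1 := by rw [h3, mul_one, mul_inv_cancel]
    have hv1' : g⁻¹ * v * g ≠ 1 := by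
      intro h3
      apply hv1
      calc v = g * (g⁻¹ * v * g) * g⁻¹ := by group
        _ = 1 := by rw [h3, mul_one, mul_inv_cancel]
    obtain ⟨i, hi⟩ := htr _ hu hu1' _ hv hv1'
    refine ⟨i, ?_⟩
    rw [conj_pow]
    generalize x₀ ^ i = y at hi
    calc g * y * g⁻¹ * u * (g * y * g⁻¹)⁻¹ = g * (y * (g⁻¹ * u * g) * y⁻¹) * g⁻¹ := by group
      _ = v := by rw [hi]; group

end Cfsg.Agent.Lib.Helper59.TP
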